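import Cfsg.Agent.Lib.PSp43Real.Sp.Range

/-!
The centralisers of two groups of order eight lie in the image of `Sp(6,2)`.
-/

set_option autoImplicit false
set_option linter.style.haveILetI false
set_option synthInstance.maxSize 4000
set_option maxRecDepth 8000

namespace CfsgPSp43Real

open Subgroup Equiv Equiv.Perm
open CfsgLib.Sym9Three (V3 xv Mon Sub tr rot act ev rt3 eType)

/-- The permutation of the three transpositions. -/
def cF : Perm (Fin 6) := swap 0 2 * swap 0 3 * (swap 1 5 * swap 1 4)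

/-- The conditions on the group of three transpositions. -/
def inTr (y : Perm (Fin 6)) : Prop :=
  y * swap 0 1 = swap 0 1 * y ∧ y * swap 3 4 = swap 3 4 * y ∧ y * swap 2 5 = swap 2 5 * y

instance (y : Perm (Fin 6)) : Decidable (inTr y) := by unfold inTr; infer_instance

/-- The elements of the group of three transpositions. -/
def trList : List (Perm (Fin 6)) :=
  [1, swap 0 1, swap 3 4, swap 2 5, swap 0 1 * swap 3 4, swap 0 1 * swap 2 5, swap 3 4 * swap 2 5,
    swap 0 1 * (swap 3 4 * swap 2 5)]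

theorem tr_facts : (∀ y, inTr y → y ∈ trList) ∧
    (∀ y ∈ trList, inTr y ∧ y * y = 1 ∧ inTr (cF * y * cF⁻¹) ∧ inTr (cF⁻¹ * y * cF) ∧ ∀ z ∈ trList, y * z = z * y) ∧
    cF * cF * cF = 1 ∧ cF * swap 0 1 ≠ swap 0 1 * cF ∧ (∃ k : Perm (Fin 6), k * (cA * cB) * k⁻¹ = cF) := by
  decide +kernel

theorem base_vec : (∀ v ∈ ([u0 + u1, ev + (u0 + u1), ev + ev + (u0 + u1)] : List V3),
      v ≠ 0 ∧ (two v ∨ ∃ r : Fin 48, act r xv = v)) ∧
    (∀ v ∈ ([u0 + ev, u0 + u0 + ev] : List V3), v ≠ 0 ∧ (two v ∨ ∃ r : Fin 48, act r xv = v)) ∧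
    act (24 : Fin 48) (-ev) = ev ∧ act (6 : Fin 48) (-u0) = u0 ∧ u0 ≠ (0 : V3) ∧ ev ≠ (0 : V3) := by decide +kernel

theorem base_words : ([2, 3, 2, 4, 3, 2].map s0).prod = swap 0 3 * swap 4 5 ∧
    ([3, 2, 4, 3].map s0).prod = swap 0 4 * swap 3 5 ∧
    (∀ y ∈ w1List, ∃ a b c : Fin 2,
      y = swap 1 2 ^ a.val * (swap 0 3 * swap 4 5) ^ b.val * (swap 0 4 * swap 3 5) ^ c.val) ∧
    cB * swap 4 5 ≠ swap 4 5 * cB := by decide +kernel

universe u

variable {G : Type u} [Group G] [Finite G]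

namespace Frame3

/-- The orders in the centraliser of a translation of the second or third type. -/
theorem ord_cent (F : Frame3 G) {v : V3} (hv : two v ∨ ∃ r : Fin 48, act r xv = v) {g : G}
    (hg : Commute g (F.j v)) : ¬ 5 ∣ orderOf g ∧ ¬ 7 ∣ orderOf g := by
  suffices h : g ^ 1296 = 1 by
    exact ⟨fun hd => absurd (hd.trans (orderOf_dvd_of_pow_eq_one h)) (by norm_num),
      fun hd => absurd (hd.trans (orderOf_dvd_of_pow_eq_one h)) (by norm_num)⟩
  rcases hv with hv | ⟨r, rfl⟩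
  · obtain ⟨m, rfl⟩ := F.mem_N3.1 (F.good_two hv g hg.eq)
    have hMon : Nat.card Mon = 1296 := by rw [Nat.card_eq_fintype_card]; decide +kernel
    have hm : m ^ 1296 = 1 := hMon ▸ pow_card_eq_one'
    rw [← map_pow, hm, map_one]
  · have hc : Commute ((F.φ (rot r))⁻¹ * g * F.φ (rot r)) (F.j xv) := by
      have := hg.conj (F.φ (rot r))⁻¹
      rwa [← F.φ_conj_j (rot r), inv_inv,
        show (F.φ (rot r))⁻¹ * (F.φ (rot r) * F.j xv * (F.φ (rot r))⁻¹) * F.φ (rot r) = F.j xv by group] at this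
    have hC : Nat.card F.D.C ∣ 648 := by
      rw [← F.D.π.ker.card_mul_index, F.D.kerCard, Subgroup.index_ker, show (648 : ℕ) = 27 * 24 from rfl]
      exact mul_dvd_mul_left 27 (dvd_trans (Subgroup.card_subgroup_dvd_card _) (dvd_of_eq (by
        rw [Nat.card_eq_fintype_card]; decide +kernel)))
    have hmem : (F.φ (rot r))⁻¹ * g * F.φ (rot r) ∈ F.D.C := F.D.mem_C.2 (by rw [← F.el_x]; exact hc.eq)
    have h648 : ((F.φ (rot r))⁻¹ * g * F.φ (rot r)) ^ 648 = 1 :=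
      orderOf_dvd_iff_pow_eq_one.1 ((Subgroup.orderOf_dvd_natCard _ hmem).trans hC)
    have e : F.φ (rot r) * ((F.φ (rot r))⁻¹ * g * F.φ (rot r)) * (F.φ (rot r))⁻¹ = g := by group
    rw [← e, conj_pow, show (1296 : ℕ) = 648 * 2 from rfl, pow_mul, h648, one_pow, mul_one, mul_inv_cancel]

namespace SixE.Emb

variable {F : Frame3 G} {D : F.SixE} (P : D.Emb)

omit [Finite G] in
/-- Conjugate translations. -/
theorem conj_back {m g : G} {v : V3} (hg : Commute g (m * F.j v * m⁻¹)) : Commute (m⁻¹ * g * m) (F.j v) := by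
  have := hg.conj m⁻¹
  rwa [inv_inv, show m⁻¹ * (m * F.j v * m⁻¹) * m = F.j v by group] at this

theorem cent_conj_j {m g : G} (hm : m ∈ P.M) {v : V3} (hv : v ≠ 0) (hg : Commute g (m * F.j v * m⁻¹)) : g ∈ P.M := by
  have := mul_mem (mul_mem hm (P.cent_j hv (conj_back hg))) (inv_mem hm)
  rwa [show m * (m⁻¹ * g * m) * m⁻¹ = g by group] at this

theorem ord_conj_j {m g : G} {v : V3} (hv : two v ∨ ∃ r : Fin 48, act r xv = v)
    (hg : Commute g (m * F.j v * m⁻¹)) : ¬ 5 ∣ orderOf g ∧ ¬ 7 ∣ orderOf g := by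
  rw [show g = MulAut.conj m (m⁻¹ * g * m) by rw [MulAut.conj_apply]; group, MulEquiv.orderOf_eq]
  exact F.ord_cent hv (conj_back hg)

/-- The centraliser of three transpositions. -/
theorem cent_Tr {g : G} (h1 : Commute g (D.Φ (swap 0 1))) (h2 : Commute g (D.Φ (swap 3 4)))
    (h3 : Commute g (D.Φ (swap 2 5))) : g ∈ P.M := by
  obtain ⟨hlist, hel, hF3, hFne, k, hk⟩ := tr_facts
  obtain ⟨hv3, -, hev, -, -, he0⟩ := base_vec
  obtain ⟨W, hW⟩ : ∃ W, W = (Subgroup.centralizer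
      ({swap 0 1, swap 3 4, swap 2 5} : Set (Perm (Fin 6)))).map D.Φ := ⟨_, rfl⟩
  have hmemW : ∀ x, x ∈ W ↔ ∃ y, inTr y ∧ D.Φ y = x := fun x => by
    rw [hW, Subgroup.mem_map]
    refine exists_congr fun y => and_congr_left fun _ => ?_
    rw [Subgroup.mem_centralizer_iff]
    exact ⟨fun h => ⟨(h _ (Or.inl rfl)).symm, (h _ (Or.inr (Or.inl rfl))).symm, (h _ (Or.inr (Or.inr rfl))).symm⟩,
      fun ⟨a, b, c⟩ z hz => by rcases hz with rfl | rfl | rfl <;> [exact a.symm; exact b.symm; exact c.symm]⟩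
  obtain ⟨C, hC⟩ : ∃ C, C = Subgroup.centralizer (W : Set G) := ⟨_, rfl⟩
  have hmemC : ∀ x, x ∈ C ↔ ∀ y, inTr y → Commute x (D.Φ y) := fun x => by
    rw [hC, Subgroup.mem_centralizer_iff]
    exact ⟨fun h y hy => (h _ ((hmemW _).2 ⟨y, hy, rfl⟩)).symm, fun h z hz => by
      obtain ⟨y, hy, rfl⟩ := (hmemW z).1 hz
      exact (h y hy).eq.symm⟩
  have hWC : W ≤ C := fun x hx => (hmemC x).2 fun z hz => by
    obtain ⟨y, hy, rfl⟩ := (hmemW x).1 hx
    exact (show Commute y z from (hel y (hlist y hy)).2.2.2.2 z (hlist z hz)).map D.Φ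
  have hW2 : IsPGroup 2 W := fun x => ⟨1, Subtype.ext (by
    obtain ⟨y, hy, e⟩ := (hmemW _).1 x.2
    rw [pow_one, Subgroup.coe_pow, pow_two, ← e, ← map_mul, (hel y (hlist y hy)).2.1, map_one]; rfl)⟩
  have hgC : g ∈ C := (hmemC g).2 fun y hy => by
    have := hlist y hy
    simp only [trList, List.mem_cons, List.not_mem_nil, or_false] at this
    rcases this with rfl | rfl | rfl | rfl | rfl | rfl | rfl | rfl <;> (try simp only [map_mul, map_one])
    exacts [Commute.one_right _, h1, h2, h3, h1.mul_right h2, h1.mul_right h3, h2.mul_right h3,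
      h1.mul_right (h2.mul_right h3)]
  have heC : F.j ev ∈ C := (hmemC _).2 fun y _ => (D.comm_ev y).symm
  have hef : Commute (F.j ev) (D.Φ cF) := (D.comm_ev cF).symm
  have hfk : D.Φ cF = D.Φ k * F.j (u0 + u1) * (D.Φ k)⁻¹ := by
    rw [← hk, map_mul, map_mul, map_mul, map_inv, D.a0, D.a1, ← F.j_add]
  have hek : F.j ev = D.Φ k * F.j ev * (D.Φ k)⁻¹ := by rw [(D.comm_ev k).eq, mul_inv_cancel_right]
  have hrest : ∀ x ∈ ([D.Φ cF, F.j ev * D.Φ cF, F.j ev * F.j ev * D.Φ cF] : List G),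
      ∃ v : V3, v ≠ 0 ∧ (two v ∨ ∃ r : Fin 48, act r xv = v) ∧ x = D.Φ k * F.j v * (D.Φ k)⁻¹ := by
    intro x hx
    simp only [List.mem_cons, List.not_mem_nil, or_false] at hx
    rcases hx with rfl | rfl | rfl
    · exact ⟨u0 + u1, (hv3 _ (by simp)).1, (hv3 _ (by simp)).2, hfk⟩
    · refine ⟨ev + (u0 + u1), (hv3 _ (by simp)).1, (hv3 _ (by simp)).2, ?_⟩
      conv_lhs => rw [hek, hfk]
      rw [conj_mul, ← F.j_add]
    · refine ⟨ev + ev + (u0 + u1), (hv3 _ (by simp)).1, (hv3 _ (by simp)).2, ?_⟩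
      conv_lhs => rw [hek, hfk]
      rw [conj_mul, conj_mul, ← F.j_add, ← F.j_add]
  have hF3' : D.Φ cF ^ 3 = 1 := by rw [← map_pow, pow_three', hF3, map_one]
  have hfC : ∀ x ∈ C, D.Φ cF * x * (D.Φ cF)⁻¹ ∈ C := fun x hx => (hmemC _).2 fun y hy => by
    have := ((hmemC x).1 hx _ (hel y (hlist y hy)).2.2.2.1).conj (D.Φ cF)
    rwa [← map_inv, ← map_mul D.Φ, ← map_mul D.Φ, show cF * (cF⁻¹ * y * cF) * cF⁻¹ = y by group, map_inv] at this
  have hfe : D.Φ cF ∉ Subgroup.zpowers (F.j ev) := fun h => by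
    obtain ⟨n, hn⟩ := Subgroup.mem_zpowers_iff.1 h
    refine hFne (D.inj ?_)
    rw [map_mul, map_mul, ← hn]
    exact (((D.comm_ev (swap 0 1)).symm).zpow_left n).eq
  have hself : ∀ x ∈ C, Commute x (F.j ev) → ∃ i : ℕ, ∃ w ∈ W, x = F.j ev ^ i * w := by
    intro x hx hxe
    obtain ⟨y, i, rfl⟩ := D.split x hxe
    have hy : inTr y := by
      have hc : ∀ z, inTr z → y * z = z * y := fun z hz => D.inj (by
        have h := (hmemC _).1 hx z hz
        have hj : Commute (F.j (i.val • ev)) (D.Φ z) := by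
          rw [F.j_smul]; exact (D.comm_ev z).symm.pow_left _
        have := h.mul_left hj.inv_left
        rw [mul_inv_cancel_right] at this
        rw [map_mul, map_mul]; exact this.eq)
      exact ⟨hc _ (by decide), hc _ (by decide), hc _ (by decide)⟩
    exact ⟨i.val, _, (hmemW _).2 ⟨y, hy, rfl⟩, by rw [F.j_smul]; exact ((D.comm_ev y).pow_right _).eq⟩
  refine cent_le_of_self_three W C P.M (e := F.j ev) (f := D.Φ cF) hWC hW2
    (fun w hw x hx => by obtain ⟨y, hy, rfl⟩ := (hmemW w).1 hw; exact (hmemC x).1 hx y hy)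
    heC (F.j_cube _) (F.j_ne_one he0) hF3' hef hfe hfC
    (fun w hw => by
      obtain ⟨y, hy, rfl⟩ := (hmemW w).1 hw
      rw [← map_inv, ← map_mul, ← map_mul]
      exact (hmemW _).2 ⟨_, (hel y (hlist y hy)).2.2.1, rfl⟩)
    hself ?_ ?_ ?_ hgC
  · intro x hx z hz hzx
    rcases List.mem_cons.1 hx with rfl | hx
    · exact P.cent_ev hzx
    · obtain ⟨v, hv, -, rfl⟩ := hrest x hx
      exact P.cent_conj_j (P.Φ_mem k) hv hzx
  · intro x hx z hz hzx
    rcases List.mem_cons.1 hx with rfl | hx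
    · obtain ⟨i, w, hw, rfl⟩ := hself z hz hzx
      obtain ⟨y, hy, rfl⟩ := (hmemW w).1 hw
      have h6 : (F.j ev ^ i * D.Φ y) ^ 6 = 1 := by
        rw [((D.comm_ev y).symm.pow_left i).mul_pow, ← pow_mul, show i * 6 = 3 * (2 * i) by ring, pow_mul, F.j_cube,
          one_pow, one_mul, ← map_pow, show y ^ 6 = (y * y) ^ 3 by rw [← pow_two, ← pow_mul],
          (hel y (hlist y hy)).2.1, one_pow, map_one]
      exact ⟨fun hd => absurd (hd.trans (orderOf_dvd_of_pow_eq_one h6)) (by norm_num),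
        fun hd => absurd (hd.trans (orderOf_dvd_of_pow_eq_one h6)) (by norm_num)⟩
    · obtain ⟨v, -, hv, rfl⟩ := hrest x hx
      exact ord_conj_j hv hzx
  · intro z hz hze
    rcases hze with e | e
    · exact P.cent_ev (mul_inv_eq_iff_eq_mul.1 e)
    · have hm := P.N_le (F.φ_mem (rot 24))
      have : F.φ (rot 24) * z ∈ P.M := P.cent_ev (mul_inv_eq_iff_eq_mul.1 (by
        rw [show F.φ (rot 24) * z * F.j ev * (F.φ (rot 24) * z)⁻¹ =
          F.φ (rot 24) * (z * F.j ev * z⁻¹) * (F.φ (rot 24))⁻¹ by group, e, ← F.j_neg, F.φ_conj_j]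
        exact congrArg F.j hev))
      simpa using mul_mem (inv_mem hm) this

/-- The centraliser of the other group of order eight. -/
theorem cent_W1 {g : G} (h1 : Commute g (D.Φ0 (swap 1 2))) (h2 : Commute g (D.Φ0 (swap 0 3 * swap 4 5)))
    (h3 : Commute g (D.Φ0 (swap 0 4 * swap 3 5))) : g ∈ P.M := by
  obtain ⟨hlist, hel, hB3, -⟩ := w1_facts
  obtain ⟨hfour, -⟩ := four_facts
  obtain ⟨-, hv2, -, hu, hu0, -⟩ := base_vec
  obtain ⟨-, -, hgen, hBne⟩ := base_words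
  obtain ⟨C, hC⟩ : ∃ C, C = Subgroup.centralizer (D.W1 : Set G) := ⟨_, rfl⟩
  have hmemC : ∀ x, x ∈ C ↔ ∀ y, inW1 y → Commute x (D.Φ0 y) := fun x => hC ▸ D.mem_cent_W1
  have hWC : D.W1 ≤ C := fun x hx => (hmemC x).2 fun z hz => by
    obtain ⟨y, hy, rfl⟩ := D.mem_W1.1 hx
    exact (show Commute y z from (hel y (hlist y hy)).2.2.2 z (hlist z hz)).map D.Φ0
  have hW2 : IsPGroup 2 D.W1 := fun x => ⟨1, Subtype.ext (by
    obtain ⟨y, hy, e⟩ := D.mem_W1.1 x.2
    rw [pow_one, Subgroup.coe_pow, pow_two, ← e, ← map_mul, (hel y (hlist y hy)).2.1, map_one]; rfl)⟩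
  have hgC : g ∈ C := (hmemC g).2 fun y hy => by
    obtain ⟨a, b, c, rfl⟩ := hgen y (hlist y hy)
    rw [map_mul, map_mul, map_pow, map_pow, map_pow]
    exact ((h1.pow_right _).mul_right (h2.pow_right _)).mul_right (h3.pow_right _)
  have heC : F.j u0 ∈ C := (hmemC _).2 fun y _ => (D.Φ0_comm_e y).symm
  have hfC : ∀ x ∈ C, F.j ev * x * (F.j ev)⁻¹ ∈ C := fun x hx => (hmemC _).2 fun y hy => by
    have hc : inW1 (cB⁻¹ * y * cB) := by
      have h := (hel _ (hlist _ (hel y (hlist y hy)).2.2.1)).2.2.1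
      rwa [show cB * (cB * y * cB⁻¹) * cB⁻¹ = (cB * cB) * y * (cB * cB)⁻¹ by group,
        eq_inv_of_mul_eq_one_left hB3, inv_inv] at h
    have := ((hmemC _).1 hx _ hc).conj (F.j ev)
    rwa [map_mul, map_mul, map_inv, D.Φ0_B,
      show F.j ev * ((F.j ev)⁻¹ * D.Φ0 y * F.j ev) * (F.j ev)⁻¹ = D.Φ0 y by group] at this
  have hfe : F.j ev ∉ Subgroup.zpowers (F.j u0) := fun h => by
    obtain ⟨n, hn⟩ := Subgroup.mem_zpowers_iff.1 h
    refine hBne (D.Φ0_inj ?_)
    rw [map_mul, map_mul, D.Φ0_B, ← hn]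
    exact (((D.Φ0_comm_e (swap 4 5)).symm).zpow_left n).eq
  have hself : ∀ x ∈ C, Commute x (F.j u0) → ∃ i : ℕ, ∃ w ∈ D.W1, x = F.j u0 ^ i * w := by
    intro x hx hxe
    obtain ⟨y, i, rfl⟩ := D.split0 hxe
    have hy : inW1 y := by
      have hc : ∀ z, inW1 z → y * z = z * y := fun z hz => D.Φ0_inj (by
        have h := (hmemC _).1 hx z hz
        have hj : Commute (F.j (i.val • u0)) (D.Φ0 z) := by
          rw [F.j_smul]; exact (D.Φ0_comm_e z).symm.pow_left _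
        have := h.mul_left hj.inv_left
        rw [mul_inv_cancel_right] at this
        rw [map_mul, map_mul]; exact this.eq)
      exact ⟨hc _ (by decide), hc _ (by decide), hc _ (by decide)⟩
    exact ⟨i.val, _, D.mem_W1.2 ⟨y, hy, rfl⟩, by rw [F.j_smul]; exact ((D.Φ0_comm_e y).pow_right _).eq⟩
  refine cent_le_of_self_three D.W1 C P.M (e := F.j u0) (f := F.j ev) hWC hW2
    (fun w hw x hx => by obtain ⟨y, hy, rfl⟩ := D.mem_W1.1 hw; exact (hmemC x).1 hx y hy)
    heC (F.j_cube _) (F.j_ne_one hu0) (F.j_cube _) (F.J_comm (F.j_mem _) (F.j_mem _)) hfe hfC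
    (fun w hw => by
      obtain ⟨y, hy, rfl⟩ := D.mem_W1.1 hw
      rw [← D.Φ0_B, ← map_inv, ← map_mul, ← map_mul]
      exact D.mem_W1.2 ⟨_, (hel y (hlist y hy)).2.2.1, rfl⟩)
    hself ?_ ?_ ?_ hgC
  · intro x hx z hz hzx
    simp only [List.mem_cons, List.not_mem_nil, or_false] at hx
    rcases hx with rfl | rfl | rfl | rfl
    · exact P.cent_u0 hzx
    · exact P.cent_ev hzx
    · exact P.cent_j (hv2 (u0 + ev) (by simp)).1 (by rw [F.j_add]; exact hzx)
    · exact P.cent_j (hv2 (u0 + u0 + ev) (by simp)).1 (by rw [F.j_add, F.j_add]; exact hzx)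
  · intro x hx z hz hzx
    simp only [List.mem_cons, List.not_mem_nil, or_false] at hx
    have key : ∀ n : ℕ, z ^ n = 1 → ¬ 5 ∣ n → ¬ 7 ∣ n → ¬ 5 ∣ orderOf z ∧ ¬ 7 ∣ orderOf z :=
      fun n h h5 h7 => ⟨fun hd => h5 (hd.trans (orderOf_dvd_of_pow_eq_one h)),
        fun hd => h7 (hd.trans (orderOf_dvd_of_pow_eq_one h))⟩
    rcases hx with rfl | rfl | rfl | rfl
    · obtain ⟨i, w, hw, rfl⟩ := hself z hz hzx
      obtain ⟨y, hy, rfl⟩ := D.mem_W1.1 hw
      refine key 6 ?_ (by norm_num) (by norm_num)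
      rw [((D.Φ0_comm_e y).symm.pow_left i).mul_pow, ← pow_mul, show i * 6 = 3 * (2 * i) by ring, pow_mul, F.j_cube,
        one_pow, one_mul, ← map_pow, show y ^ 6 = (y * y) ^ 3 by rw [← pow_two, ← pow_mul],
        (hel y (hlist y hy)).2.1, one_pow, map_one]
    · obtain ⟨y, i, rfl⟩ := D.split z hzx
      have hy45 : y * swap 4 5 = swap 4 5 * y := D.inj (by
        have h45 : Commute (D.Φ y * F.j (i.val • ev)) (D.Φ (swap 4 5)) := by
          rw [D.Φ_45, ← D.Φ0_12]; exact (hmemC _).1 hz _ (by decide)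
        have hc : Commute (F.j (i.val • ev)) (D.Φ (swap 4 5)) := by
          rw [F.j_smul]; exact (D.comm_ev _).symm.pow_left _
        have := h45.mul_left hc.inv_left
        rw [mul_inv_cancel_right] at this
        rw [map_mul, map_mul]; exact this.eq)
      refine key 36 ?_ (by norm_num) (by norm_num)
      rw [F.j_smul, ((D.comm_ev y).pow_right _).mul_pow, ← map_pow, show (36 : ℕ) = 12 * 3 from rfl, pow_mul y,
        (hfour y hy45).1, one_pow, map_one, one_mul, ← pow_mul, show i.val * (12 * 3) = 3 * (12 * i.val) by ring,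
        pow_mul, F.j_cube, one_pow]
    · exact F.ord_cent (hv2 (u0 + ev) (by simp)).2 (by rw [F.j_add]; exact hzx)
    · exact F.ord_cent (hv2 (u0 + u0 + ev) (by simp)).2 (by rw [F.j_add, F.j_add]; exact hzx)
  · intro z hz hze
    rcases hze with e | e
    · exact P.cent_u0 (mul_inv_eq_iff_eq_mul.1 e)
    · have hm := P.N_le (F.φ_mem (rot 6))
      have : F.φ (rot 6) * z ∈ P.M := P.cent_u0 (mul_inv_eq_iff_eq_mul.1 (by
        rw [show F.φ (rot 6) * z * F.j u0 * (F.φ (rot 6) * z)⁻¹ =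
          F.φ (rot 6) * (z * F.j u0 * z⁻¹) * (F.φ (rot 6))⁻¹ by group, e, ← F.j_neg, F.φ_conj_j]
        exact congrArg F.j hu))
      simpa using mul_mem (inv_mem hm) this

end SixE.Emb

end Frame3

end CfsgPSp43Real
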