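import Cfsg.Agent.Lib.PSp43Real.Sp.Range

/-!
Control of centralisers of commuting involutions of the image of `Sp(6,2)`: conjugation, classes and isolated
transvections.
-/

set_option autoImplicit false
set_option linter.style.haveILetI false
set_option synthInstance.maxSize 4000
set_option maxRecDepth 8000

namespace CfsgPSp43Real

open Subgroup Equiv Equiv.Perm
open CfsgLib.Sym9Three (V3 xv Mon Sub tr rot act ev rt3)

namespace SpM

theorem wd_append (l l' : List (Fin 64)) : wd (l ++ l') = wd l * wd l' := by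
  rw [wd, List.map_append, List.prod_append]; rfl

/-- The products of a list of commuting involutions. -/
def spanL (V : List (List (Fin 64))) : List (List (Fin 64)) := V.sublists.map List.flatten

/-- Commuting with all products. -/
def Com (V : List (List (Fin 64))) (p : Perm (Fin 64)) : Prop := ∀ l ∈ spanL V, p * wd l = wd l * p

/-- Being one of the products. -/
def Span (V : List (List (Fin 64))) (p : Perm (Fin 64)) : Prop := ∃ l ∈ spanL V, p = wd l

/-- Equal types of all products with two transvections. -/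
def Sig (V : List (List (Fin 64))) (u v : Fin 64) : Prop := ∀ l ∈ spanL V, typ (T v * wd l) = typ (T u * wd l)

instance (V : List (List (Fin 64))) (p : Perm (Fin 64)) : Decidable (Com V p) := by unfold Com; infer_instance

instance (V : List (List (Fin 64))) (p : Perm (Fin 64)) : Decidable (Span V p) := by unfold Span; infer_instance

instance (V : List (List (Fin 64))) (u v : Fin 64) : Decidable (Sig V u v) := by unfold Sig; infer_instance

/-- The conditions for a transvection isolated modulo the products and a four group. -/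
def IsoOk (V : List (List (Fin 64))) (u : Fin 64) (a b n : List (Fin 64)) : Prop :=
  (∀ l ∈ spanL V, (∀ l' ∈ spanL V, Span V (wd l * wd l') ∧ wd l * wd l' = wd l' * wd l) ∧ wd l * wd l = 1 ∧ T u ≠ wd l) ∧
  (Com V (T u) ∧ Com V (wd a) ∧ Com V (wd b) ∧ Com V (wd n)) ∧
  (wd a * wd a = 1 ∧ wd b * wd b = 1 ∧ wd a * wd b = wd b * wd a ∧ wd a ≠ 1 ∧ wd b ≠ 1 ∧ wd a ≠ wd b) ∧
  u ≠ 0 ∧
  (∀ v, Com V (T v) → Sig V u v → Span V (T v * T u * T v * T u) → Span V (T u * T v)) ∧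
  ∀ v, Com V (T v) → Sig V u v → Span V (T u * T v) → v = u ∨ wd n * T u = T v * wd n

instance (V : List (List (Fin 64))) (u : Fin 64) (a b n : List (Fin 64)) : Decidable (IsoOk V u a b n) := by
  unfold IsoOk; infer_instance

theorem typ_T : ∀ v : Fin 64, v ≠ 0 → typ (T v) = typ (wd (rep 0)) := by decide +kernel

theorem typ_one : ∀ i : Fin 4, typ 1 ≠ typ (wd (rep i)) := by decide +kernel

theorem rep_sq : ∀ i : Fin 4, wd (rep i) * wd (rep i) = 1 ∧ wd (rep i) ≠ 1 := by decide +kernel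

/-- An involution has the type of one of the representatives, and the type determines its class. -/
theorem class_of {p : Perm (Fin 64)} (hp : p ∈ S) (h2 : p * p = 1) (h1 : p ≠ 1) :
    ∃ m ∈ S, ∃ i, m * p * m⁻¹ = wd (rep i) ∧ typ p = typ (wd (rep i)) := by
  obtain ⟨m, hm, i, e⟩ := classify hp h2 h1
  exact ⟨m, hm, i, e, by rw [← e, typ_conj hm]⟩

/-- An involution of the type of a transvection is one. -/
theorem eq_T {p : Perm (Fin 64)} (hp : p ∈ S) (h2 : p * p = 1) (ht : typ p = typ (wd (rep 0))) : ∃ v, p = T v := by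
  obtain ⟨m, hm, i, e, et⟩ := class_of hp h2 fun h => typ_one 0 (h ▸ ht)
  have hi : i = 0 := typ_rep i 0 (et.symm.trans ht)
  subst hi
  refine ⟨m⁻¹ 16, ?_⟩
  rw [← conj_T (inv_mem hm) 16, inv_inv, show T 16 = wd (rep 0) from (mul_one _).symm, ← e]
  group

end SpM

universe u

variable {G : Type u} [Group G]

namespace Frame3

namespace SixE.Emb

variable {F : Frame3 G} {D : F.SixE} (P : D.Emb)

/-- The centraliser of the elements of the words lies in the image. -/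
def CM (V : List (List (Fin 64))) : Prop := ∀ g : G, (∀ w ∈ V, Commute g (P.ew w)) → g ∈ P.M

theorem Ψ_inj {p q : SpM.S} (h : P.Ψ p = P.Ψ q) : p.1 = q.1 := congrArg Subtype.val (P.inj h)

theorem ew_mul_eq {l l' l'' : List (Fin 64)} (h : SpM.wd l * SpM.wd l' = SpM.wd l'') :
    P.ew l * P.ew l' = P.ew l'' := by
  rw [← P.ew_append]; exact P.ew_eq (by rw [SpM.wd_append, h])

theorem ew_comm {l l' : List (Fin 64)} (h : SpM.wd l * SpM.wd l' = SpM.wd l' * SpM.wd l) :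
    Commute (P.ew l) (P.ew l') := by
  show P.ew l * P.ew l' = P.ew l' * P.ew l
  rw [← P.ew_append, ← P.ew_append]; exact P.ew_eq (by rw [SpM.wd_append, SpM.wd_append, h])

theorem ew_sq {l : List (Fin 64)} (h : SpM.wd l * SpM.wd l = 1) : P.ew l * P.ew l = 1 := by
  rw [← P.ew_append, ← P.ew_nil]; exact P.ew_eq (by rw [SpM.wd_append, h]; rfl)

theorem comm_span {V : List (List (Fin 64))} {g : G} (h : ∀ w ∈ V, Commute g (P.ew w)) :
    ∀ l ∈ SpM.spanL V, Commute g (P.ew l) := by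
  intro l hl
  obtain ⟨s, hs, rfl⟩ := List.mem_map.1 hl
  have hsub := (List.mem_sublists.1 hs).subset
  clear hl hs
  induction s with
  | nil => rw [List.flatten_nil, P.ew_nil]; exact Commute.one_right g
  | cons w s ih =>
    rw [List.flatten_cons, P.ew_append]
    exact (h w (hsub (List.mem_cons_self ..))).mul_right (ih fun x hx => hsub (List.mem_cons_of_mem _ hx))

/-- A conjugate of a group with controlled centraliser inside the products. -/
theorem CM_conj {K V : List (List (Fin 64))} (h : P.CM K) (m : List (Fin 64))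
    (hm : ∀ w ∈ K, ∃ l ∈ SpM.spanL V, SpM.wd m * SpM.wd w = SpM.wd l * SpM.wd m) : P.CM V := by
  intro g hg
  have hk : (P.ew m)⁻¹ * g * P.ew m ∈ P.M := by
    refine h _ fun w hw => ?_
    obtain ⟨l, hl, e⟩ := hm w hw
    have e' : P.ew m * P.ew w = P.ew l * P.ew m := by
      rw [← P.ew_append, ← P.ew_append]; exact P.ew_eq (by rw [SpM.wd_append, SpM.wd_append, e])
    have hc := (P.comm_span hg l hl).conj (P.ew m)⁻¹
    rwa [inv_inv, mul_assoc (P.ew m)⁻¹ (P.ew l), ← e', inv_mul_cancel_left] at hc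
  have := mul_mem (mul_mem (P.ew_mem m) hk) (inv_mem (P.ew_mem m))
  rwa [show P.ew m * ((P.ew m)⁻¹ * g * P.ew m) * (P.ew m)⁻¹ = g by group] at this

variable [Finite G]

theorem sep_rep {i j : Fin 4} {g : G} (h : g * P.ew (SpM.rep i) * g⁻¹ = P.ew (SpM.rep j)) : i = j := by
  have hinv : ∀ {x y : G}, g * x * g⁻¹ = y → g⁻¹ * y * g⁻¹⁻¹ = x := fun e => by rw [← e]; group
  obtain ⟨r0, r1, r2, r3⟩ := P.ew_rep
  have e24 : F.φ rt3 = F.φ (rot 24) := rfl
  fin_cases i <;> fin_cases j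
  all_goals first | rfl | exfalso
  all_goals simp only [Fin.zero_eta, Fin.mk_one, Fin.reduceFinMk, Fin.isValue, r0, r1, r2, r3, e24] at h
  exacts [(D.sep_classes g⁻¹).1 (hinv h), (F.sep_three g⁻¹).1 (hinv h), (F.sep_three g⁻¹).2.1 (hinv h),
    (D.sep_classes g).1 h, (D.sep_classes g).2.1 h, (D.sep_classes g).2.2 h,
    (F.sep_three g).1 h, (D.sep_classes g⁻¹).2.1 (hinv h), (F.sep_three g⁻¹).2.2 (hinv h),
    (F.sep_three g).2.1 h, (D.sep_classes g⁻¹).2.2 (hinv h), (F.sep_three g).2.2 h]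

/-- Conjugate elements of the image have the same type. -/
theorem typ_of_conj {p q : SpM.S} {g : G} (h : g * P.Ψ p * g⁻¹ = P.Ψ q) (hp : p * p = 1) :
    q * q = 1 ∧ SpM.typ p.1 = SpM.typ q.1 := by
  have hq : q * q = 1 := P.inj (by rw [map_mul, ← h, conj_mul, ← map_mul, hp, map_one, mul_one, mul_inv_cancel])
  refine ⟨hq, ?_⟩
  by_cases hp1 : p = 1
  · rw [hp1, map_one, mul_one, mul_inv_cancel] at h
    rw [hp1, P.inj ((map_one P.Ψ).trans h)]
  have hq1 : q ≠ 1 := fun e => hp1 (P.inj (by rw [map_one]; rw [e, map_one, conj_eq_one_iff] at h; exact h))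
  obtain ⟨m, hm, i, e, et⟩ := SpM.class_of p.2 (congrArg Subtype.val hp) (fun h' => hp1 (Subtype.ext h'))
  obtain ⟨n, hn, j, e', et'⟩ := SpM.class_of q.2 (congrArg Subtype.val hq) (fun h' => hq1 (Subtype.ext h'))
  have ei : P.ew (SpM.rep i) = P.Ψ ⟨m, hm⟩ * P.Ψ p * (P.Ψ ⟨m, hm⟩)⁻¹ := by
    rw [← map_inv, ← map_mul, ← map_mul]; exact congrArg P.Ψ (Subtype.ext e.symm)
  have ej : P.ew (SpM.rep j) = P.Ψ ⟨n, hn⟩ * P.Ψ q * (P.Ψ ⟨n, hn⟩)⁻¹ := by
    rw [← map_inv, ← map_mul, ← map_mul]; exact congrArg P.Ψ (Subtype.ext e'.symm)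
  have hij : i = j := P.sep_rep (g := P.Ψ ⟨n, hn⟩ * g * (P.Ψ ⟨m, hm⟩)⁻¹) (by rw [ei, ej, ← h]; group)
  rw [et, et', hij]

/-- The centralisers of a class. -/
theorem cent_class {w : List (Fin 64)} (hw : P.CM [w]) (hw2 : SpM.wd w * SpM.wd w = 1)
    (hne : SpM.typ (SpM.wd w) ≠ SpM.typ 1) {q : SpM.S} (hq : q * q = 1) (ht : SpM.typ q.1 = SpM.typ (SpM.wd w))
    {g : G} (hg : Commute g (P.Ψ q)) : g ∈ P.M := by
  obtain ⟨m, hm, i, e, et⟩ := SpM.class_of q.2 (congrArg Subtype.val hq) (fun h' => hne (by rw [← ht, h']))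
  obtain ⟨n, hn, j, e', et'⟩ := SpM.class_of (SpM.wd_mem w) hw2 (fun h' => hne (by rw [h']))
  have hij : i = j := SpM.typ_rep i j (by rw [← et, ← et', ht])
  subst hij
  obtain ⟨c, hc⟩ : ∃ c : SpM.S, c = (⟨m, hm⟩ : SpM.S)⁻¹ * ⟨n, hn⟩ := ⟨_, rfl⟩
  have hcq : P.Ψ q = P.Ψ c * P.ew w * (P.Ψ c)⁻¹ := by
    rw [ew, ← map_inv, ← map_mul, ← map_mul]
    refine congrArg P.Ψ (Subtype.ext ?_)
    simp only [hc, Subgroup.coe_mul, Subgroup.coe_inv]
    calc q.1 = m⁻¹ * (m * q.1 * m⁻¹) * m := by group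
      _ = _ := by rw [e, ← e']; group
  have hk : (P.Ψ c)⁻¹ * g * P.Ψ c ∈ P.M := hw _ fun w' hw' => by
    rw [List.mem_singleton.1 hw']
    have := hg.conj (P.Ψ c)⁻¹
    rwa [hcq, inv_inv, show (P.Ψ c)⁻¹ * (P.Ψ c * P.ew w * (P.Ψ c)⁻¹) * P.Ψ c = P.ew w by group] at this
  have := mul_mem (mul_mem (show P.Ψ c ∈ P.M from ⟨c, rfl⟩) hk) (inv_mem (show P.Ψ c ∈ P.M from ⟨c, rfl⟩))
  rwa [show P.Ψ c * ((P.Ψ c)⁻¹ * g * P.Ψ c) * (P.Ψ c)⁻¹ = g by group] at this

/-- A product of the controlled class. -/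
theorem CM_class {w : List (Fin 64)} (hw : P.CM [w]) (hw2 : SpM.wd w * SpM.wd w = 1)
    (hne : SpM.typ (SpM.wd w) ≠ SpM.typ 1) {V : List (List (Fin 64))}
    (h : ∃ l ∈ SpM.spanL V, SpM.wd l * SpM.wd l = 1 ∧ SpM.typ (SpM.wd l) = SpM.typ (SpM.wd w)) : P.CM V := by
  obtain ⟨l, hl, h2, ht⟩ := h
  exact fun g hg => P.cent_class hw hw2 hne (q := ⟨SpM.wd l, SpM.wd_mem l⟩) (Subtype.ext h2) ht (P.comm_span hg l hl)

/-- A transvection isolated modulo commuting involutions. -/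
theorem CM_iso {V : List (List (Fin 64))} {u : Fin 64} {a b n : List (Fin 64)} (h : SpM.IsoOk V u a b n)
    (hx : P.CM (V ++ [[u]])) (ha : P.CM (V ++ [a])) (hb : P.CM (V ++ [b])) (hab : P.CM (V ++ [a ++ b])) :
    P.CM V := by
  classical
  obtain ⟨hspan, ⟨hcu, hca, hcb, hcn⟩, ⟨ha2, hb2, habc, ha1, hb1, hne⟩, hu, h2, h3⟩ := h
  have hnil : ([] : List (Fin 64)) ∈ SpM.spanL V :=
    List.mem_map.2 ⟨[], List.mem_sublists.2 (List.nil_sublist _), rfl⟩
  obtain ⟨W, hW⟩ : ∃ W : Subgroup G, ∀ g, g ∈ W ↔ ∃ l ∈ SpM.spanL V, g = P.ew l :=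
    ⟨{ carrier := {g | ∃ l ∈ SpM.spanL V, g = P.ew l}
       mul_mem' := by
        rintro _ _ ⟨l, hl, rfl⟩ ⟨l', hl', rfl⟩
        obtain ⟨l'', hl'', e⟩ := ((hspan l hl).1 l' hl').1
        exact ⟨l'', hl'', P.ew_mul_eq e⟩
       one_mem' := ⟨[], hnil, P.ew_nil.symm⟩
       inv_mem' := by
        rintro _ ⟨l, hl, rfl⟩
        exact ⟨l, hl, inv_eq_of_mul_eq_one_right (P.ew_sq (hspan l hl).2.1)⟩ }, fun g => Iff.rfl⟩
  obtain ⟨C, hC⟩ : ∃ C : Subgroup G, ∀ g, g ∈ C ↔ ∀ l ∈ SpM.spanL V, Commute g (P.ew l) :=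
    ⟨Subgroup.centralizer (W : Set G), fun g => by
      rw [Subgroup.mem_centralizer_iff]
      exact ⟨fun h l hl => (h _ ((hW _).2 ⟨l, hl, rfl⟩)).symm, fun h z hz => by
        obtain ⟨l, hl, rfl⟩ := (hW z).1 hz
        exact (h l hl).eq.symm⟩⟩
  have hsing : ∀ w ∈ V, w ∈ SpM.spanL V := fun w hw =>
    List.mem_map.2 ⟨[w], List.mem_sublists.2 (List.singleton_sublist.2 hw), by simp⟩
  have happ : ∀ {w : List (Fin 64)}, P.CM (V ++ [w]) → ∀ g ∈ C, Commute g (P.ew w) → g ∈ P.M := by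
    intro w hw g hg hgw
    refine hw g fun z hz => ?_
    rcases List.mem_append.1 hz with hz | hz
    · exact (hC g).1 hg z (hsing z hz)
    · rw [List.mem_singleton.1 hz]; exact hgw
  have hinC : ∀ {w : List (Fin 64)}, SpM.Com V (SpM.wd w) → P.ew w ∈ C := fun hw =>
    (hC _).2 fun l hl => P.ew_comm (hw l hl)
  obtain ⟨x, hxdef⟩ : ∃ x, x = P.ew [u] := ⟨_, rfl⟩
  have hwu : SpM.wd [u] = SpM.T u := mul_one _
  have hxC : x ∈ C := hxdef ▸ hinC (hwu ▸ hcu)
  have hx2 : x * x = 1 := hxdef ▸ P.ew_sq (by rw [hwu, SpM.T_sq])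
  -- the images of the transvection
  have himg : ∀ c ∈ C, ∀ p : SpM.S, c * x * c⁻¹ = P.Ψ p → ∃ v, p.1 = SpM.T v ∧ SpM.Com V (SpM.T v) ∧ SpM.Sig V u v := by
    intro c hc p hp
    obtain ⟨hp2, ht⟩ := P.typ_of_conj (p := ⟨SpM.wd [u], SpM.wd_mem _⟩) (hxdef ▸ hp : c * P.ew [u] * c⁻¹ = P.Ψ p)
      (Subtype.ext (show SpM.wd [u] * SpM.wd [u] = 1 by rw [hwu, SpM.T_sq]))
    obtain ⟨v, hv⟩ := SpM.eq_T p.2 (congrArg Subtype.val hp2) (ht.symm.trans ((congrArg SpM.typ hwu).trans (SpM.typ_T u hu)))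
    refine ⟨v, hv, fun l hl => ?_, fun l hl => ?_⟩
    · have hpC : P.Ψ p ∈ C := hp ▸ mul_mem (mul_mem hc hxC) (inv_mem hc)
      have := P.Ψ_inj (p := p * ⟨SpM.wd l, SpM.wd_mem l⟩) (q := ⟨SpM.wd l, SpM.wd_mem l⟩ * p)
        (by rw [map_mul, map_mul]; exact ((hC _).1 hpC l hl).eq)
      simpa [hv] using this
    · have hcl : Commute c (P.ew l) := (hC c).1 hc l hl
      have e : c * P.Ψ (⟨SpM.wd [u], SpM.wd_mem _⟩ * ⟨SpM.wd l, SpM.wd_mem l⟩) * c⁻¹ =
          P.Ψ (p * ⟨SpM.wd l, SpM.wd_mem l⟩) := by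
        rw [map_mul, map_mul, ← hp, hxdef]
        show c * (P.ew [u] * P.ew l) * c⁻¹ = c * P.ew [u] * c⁻¹ * P.ew l
        rw [mul_assoc (c * P.ew [u]), hcl.inv_left.eq]; group
      have := (P.typ_of_conj e (Subtype.ext (by
        show SpM.wd [u] * SpM.wd l * (SpM.wd [u] * SpM.wd l) = 1
        rw [hwu, (show Commute (SpM.wd l) (SpM.T u) from (hcu l hl).symm).mul_mul_mul_comm,
          SpM.T_sq, (hspan l hl).2.1, one_mul]))).2
      simpa [hv, hwu] using this.symm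
  -- the stabiliser of the coset
  have key : ∀ c ∈ C, ∀ l ∈ SpM.spanL V, c * x * c⁻¹ = P.ew l * x → c ∈ P.M := by
    intro c hc l hl e
    obtain ⟨v, hv, hvc, hvs⟩ := himg c hc ⟨SpM.wd (l ++ [u]), SpM.wd_mem _⟩ (by
      rw [e, hxdef, ← P.ew_append]; rfl)
    have hv' : SpM.T v = SpM.wd l * SpM.T u := by rw [← hv, ← hwu]; exact SpM.wd_append l [u]
    have hcomm := hcu l hl
    rcases h3 v hvc hvs ⟨l, hl, by rw [hv', ← mul_assoc, hcomm, mul_assoc, SpM.T_sq, mul_one]⟩ with hvu | hn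
    · refine happ hx c hc ?_
      rw [← hxdef]
      refine mul_inv_eq_iff_eq_mul.1 ?_
      rw [e, hxdef, ← P.ew_append]
      exact P.ew_eq (by rw [SpM.wd_append, hwu, ← hv', hvu])
    · have hnC : P.ew n ∈ C := hinC hcn
      have hcn' : (P.ew n)⁻¹ * c ∈ P.M := by
        refine happ hx _ (mul_mem (inv_mem hnC) hc) (hxdef ▸ mul_inv_eq_iff_eq_mul.1 ?_)
        have e' : P.ew n * x = P.ew l * x * P.ew n := by
          rw [hxdef, ← P.ew_append, ← P.ew_append, ← P.ew_append]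
          exact P.ew_eq (by simp only [SpM.wd_append, hwu, hn, hv'])
        calc (P.ew n)⁻¹ * c * x * ((P.ew n)⁻¹ * c)⁻¹ = (P.ew n)⁻¹ * (c * x * c⁻¹) * P.ew n := by group
          _ = x := by rw [e, mul_assoc, ← e', inv_mul_cancel_left]
      have := mul_mem (P.ew_mem n) hcn'
      rwa [mul_inv_cancel_left] at this
  intro g hg
  have hgC : g ∈ C := (hC g).2 (P.comm_span hg)
  obtain ⟨O, hOC, hodd, hOn, hOg⟩ := isolated_mod C W
    (fun z hz => by
      obtain ⟨l, hl, rfl⟩ := (hW z).1 hz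
      exact hinC fun l' hl' => ((hspan l hl).1 l' hl').2)
    (fun z => ⟨1, Subtype.ext (by
      obtain ⟨l, hl, e⟩ := (hW _).1 z.2
      rw [pow_one, Subgroup.coe_pow, pow_two, e, P.ew_sq (hspan l hl).2.1]; rfl)⟩)
    (fun z hz c hc => by obtain ⟨l, hl, rfl⟩ := (hW z).1 hz; exact (hC c).1 hc l hl)
    hxC hx2
    (fun h => by
      obtain ⟨l, hl, e⟩ := (hW x).1 h
      exact (hspan l hl).2.2 (hwu ▸ P.Ψ_inj (hxdef ▸ e : P.ew [u] = P.ew l)))
    (by
      intro c hc hcW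
      obtain ⟨w', hw'⟩ : ∃ w', w' = c * x * c⁻¹ := ⟨_, rfl⟩
      rw [← hw'] at hcW ⊢
      obtain ⟨l, hl, e⟩ := (hW _).1 hcW
      have hw'C : w' ∈ C := hw' ▸ mul_mem (mul_mem hc hxC) (inv_mem hc)
      have hw'M : w' ∈ P.M := key w' hw'C l hl (mul_inv_eq_iff_eq_mul.1 e)
      rw [hxdef] at e
      obtain ⟨p, hp⟩ := hw'M
      obtain ⟨v, hv, hvc, hvs⟩ := himg c hc p (hw'.symm.trans hp.symm)
      obtain ⟨l', hl', e'⟩ := h2 v hvc hvs ⟨l, hl, by
        have he := P.Ψ_inj (p := p * ⟨SpM.wd [u], SpM.wd_mem _⟩ * p⁻¹ * ⟨SpM.wd [u], SpM.wd_mem _⟩⁻¹)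
          (q := ⟨SpM.wd l, SpM.wd_mem l⟩) (by
            rw [map_mul, map_mul, map_mul, map_inv, map_inv, hp]; exact e)
        simpa [hv, hwu, inv_eq_of_mul_eq_one_right (SpM.T_sq u), inv_eq_of_mul_eq_one_right (SpM.T_sq v)] using he⟩
      refine (hW _).2 ⟨l', hl', ?_⟩
      rw [← hp, hxdef, ew, ← map_inv, ← map_mul]
      refine congrArg P.Ψ (Subtype.ext ?_)
      simp only [Subgroup.coe_mul, Subgroup.coe_inv, hv, hwu, inv_eq_of_mul_eq_one_right (SpM.T_sq u)]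
      exact e')
  obtain ⟨o, ho, hog⟩ := hOg g hgC
  obtain ⟨l, hl, e⟩ := (hW _).1 hog
  have hogM : o * g ∈ P.M := by
    refine key _ (mul_mem (hOC ho) hgC) l hl ?_
    rw [inv_mul_eq_iff_eq_mul.1 e]
    exact (hxdef ▸ (P.ew_comm (l := [u]) (l' := l) (by rw [hwu]; exact hcu l hl)).eq :)
  have haC : P.ew a ∈ C := hinC hca
  have hbC : P.ew b ∈ C := hinC hcb
  have hai := inv_eq_of_mul_eq_one_right (P.ew_sq ha2)
  have hbi := inv_eq_of_mul_eq_one_right (P.ew_sq hb2)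
  have hOM : O ≤ P.M := odd_le_of_four (P.ew_sq ha2) (P.ew_sq hb2) (P.ew_comm habc)
    (fun e => ha1 (P.Ψ_inj (e.trans P.ew_nil.symm : P.ew a = P.ew [])))
    (fun e => hb1 (P.Ψ_inj (e.trans P.ew_nil.symm : P.ew b = P.ew [])))
    (fun e => hne (P.Ψ_inj e)) O P.M hodd
    (fun o ho => by have := hOn _ haC o ho; rwa [hai] at this)
    (fun o ho => by have := hOn _ hbC o ho; rwa [hbi] at this)
    (fun o ho hc => by
      rcases hc with hc | hc | hc
      · exact happ ha o (hOC ho) hc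
      · exact happ hb o (hOC ho) hc
      · exact happ hab o (hOC ho) (P.ew_append a b ▸ hc))
  have := mul_mem (inv_mem (hOM ho)) hogM
  rwa [inv_mul_cancel_left] at this

end SixE.Emb

end Frame3

end CfsgPSp43Real
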