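import Cfsg.Agent.Lib.PSp43Real.Sp.Base
import Cfsg.Agent.Lib.PSp43Real.Sp.Iso

/-!
The image of `Sp(6,2)` contains the centralisers of its involutions, hence it is the whole group.
-/

set_option autoImplicit false
set_option linter.style.haveILetI false
set_option synthInstance.maxSize 4000
set_option maxRecDepth 8000

namespace CfsgPSp43Real

open Subgroup Equiv Equiv.Perm
open CfsgLib.Sym9Three (V3 xv Mon Sub tr rot act ev rt3)

namespace SpM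

/-- The group of order eight of the second block pair. -/
def lW1 : List (List (Fin 64)) := [[8], [24, 32, 24, 16, 32, 24], [32, 24, 16, 32]]

/-- The group of three transvections. -/
def lTr : List (List (Fin 64)) := [[1], [4], [5]]

/-- The first group of the chain. -/
def l40 : List (List (Fin 64)) := [[16], [16, 4, 20], [16, 1, 17]]

/-- The second group of the chain. -/
def l7 : List (List (Fin 64)) := [[16], [16, 4, 20]]

/-- The third group of the chain. -/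
def l18 : List (List (Fin 64)) := [[16, 4], [4, 1, 5]]

theorem chain_iso : IsoOk l40 4 [16, 8, 24] [16, 2, 18] [16, 8, 24] ∧ IsoOk l7 4 [16, 8, 24] [16, 1, 17] [16, 8, 24] ∧
    IsoOk l18 4 [16] [1] [] ∧ IsoOk [[16, 4]] 20 [16, 4, 20] [4, 1, 5] [] ∧ IsoOk [[16, 4, 1]] 21 [16] [4] [] := by
  decide +kernel

theorem chain_conj :
    ((∀ w ∈ lTr, ∃ l ∈ spanL (l40 ++ [[4]]), wd [51, 34] * wd w = wd l * wd [51, 34]) ∧
    (∀ w ∈ lW1, ∃ l ∈ spanL (l40 ++ [[16, 8, 24]]), wd [60, 36] * wd w = wd l * wd [60, 36]) ∧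
    (∀ w ∈ lW1, ∃ l ∈ spanL (l40 ++ [[16, 2, 18]]), wd [55, 34, 13] * wd w = wd l * wd [55, 34, 13]) ∧
    (∀ w ∈ lW1, ∃ l ∈ spanL (l40 ++ [[16, 8, 24] ++ [16, 2, 18]]), wd [63, 33, 6] * wd w = wd l * wd [63, 33, 6])) ∧
    ((∀ w ∈ lTr, ∃ l ∈ spanL (l7 ++ [[4]]), wd [51, 34] * wd w = wd l * wd [51, 34]) ∧
    (∀ w ∈ lW1, ∃ l ∈ spanL (l7 ++ [[16, 8, 24]]), wd [60, 36] * wd w = wd l * wd [60, 36]) ∧
    (∀ w ∈ l40, ∃ l ∈ spanL (l7 ++ [[16, 1, 17]]), wd [] * wd w = wd l * wd []) ∧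
    (∀ w ∈ lW1, ∃ l ∈ spanL (l7 ++ [[16, 8, 24] ++ [16, 1, 17]]), wd [57, 36, 5] * wd w = wd l * wd [57, 36, 5])) ∧
    ((∀ w ∈ l7, ∃ l ∈ spanL (l18 ++ [[4]]), wd [62, 42, 9, 8] * wd w = wd l * wd [62, 42, 9, 8]) ∧
    (∀ w ∈ l7, ∃ l ∈ spanL (l18 ++ [[16]]), wd [62, 42, 9, 8] * wd w = wd l * wd [62, 42, 9, 8]) ∧
    (∀ w ∈ l7, ∃ l ∈ spanL (l18 ++ [[1]]), wd [51, 34] * wd w = wd l * wd [51, 34]) ∧
    (∀ w ∈ l7, ∃ l ∈ spanL (l18 ++ [[16] ++ [1]]), wd [55, 34] * wd w = wd l * wd [55, 34])) ∧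
    ((∀ w ∈ l7, ∃ l ∈ spanL ([[16, 4]] ++ [[20]]), wd [36, 32] * wd w = wd l * wd [36, 32]) ∧
    (∀ w ∈ l7, ∃ l ∈ spanL ([[16, 4]] ++ [[16, 4, 20]]), wd [36, 32] * wd w = wd l * wd [36, 32]) ∧
    (∀ w ∈ l18, ∃ l ∈ spanL ([[16, 4]] ++ [[4, 1, 5]]), wd [] * wd w = wd l * wd []) ∧
    (∀ w ∈ l18, ∃ l ∈ spanL ([[16, 4]] ++ [[16, 4, 20] ++ [4, 1, 5]]), wd [18, 2] * wd w = wd l * wd [18, 2])) := by
  decide +kernel

theorem chain_sq : (wd [16, 4] * wd [16, 4] = 1 ∧ typ (wd [16, 4]) ≠ typ 1 ∧ typ (wd [16, 4]) = typ (wd (rep 1))) ∧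
    (wd [16, 4, 20] * wd [16, 4, 20] = 1 ∧ typ (wd [16, 4, 20]) ≠ typ 1 ∧
      typ (wd [16, 4, 20]) = typ (wd (rep 2))) ∧
    (wd [16, 4, 1] * wd [16, 4, 1] = 1 ∧ typ (wd [16, 4, 1]) ≠ typ 1 ∧ typ (wd [16, 4, 1]) = typ (wd (rep 3))) ∧
    (wd [16] * wd [16] = 1 ∧ wd [1] * wd [1] = 1) := by
  decide +kernel

theorem chain_six :
    (∃ l ∈ spanL ([[16, 4, 1]] ++ [[21]]), wd l * wd l = 1 ∧ typ (wd l) = typ (wd [16, 4, 20])) ∧
    (∃ l ∈ spanL ([[16, 4, 1]] ++ [[16]]), wd l * wd l = 1 ∧ typ (wd l) = typ (wd [16, 4])) ∧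
    (∃ l ∈ spanL ([[16, 4, 1]] ++ [[4]]), wd l * wd l = 1 ∧ typ (wd l) = typ (wd [16, 4])) ∧
    (∃ l ∈ spanL ([[16, 4, 1]] ++ [[16] ++ [4]]), wd l * wd l = 1 ∧ typ (wd l) = typ (wd [16, 4])) := by
  decide +kernel

theorem chain_t : typ (T 16 * wd [16, 4, 20]) ≠ typ (T 1 * wd [16, 4, 20]) ∧
    wd [16] * wd [16, 4, 20] = wd [16, 4, 20] * wd [16] ∧ wd [1] * wd [16, 4, 20] = wd [16, 4, 20] * wd [1] ∧
    wd [3] * wd [16, 4, 20] = wd [16, 4, 20] * wd [3] ∧ wd [3] * wd [1] = wd [2] * wd [3] ∧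
    wd [51, 34, 17] * wd [16, 32] = wd [1, 2] * wd [51, 34, 17] ∧
    ∀ v, T v * wd [16, 4, 20] = wd [16, 4, 20] * T v → T v * T 16 = T 16 * T v → T 16 * T v ≠ 1 →
      (typ (T v * wd [16, 4, 20]) = typ (T 16 * wd [16, 4, 20]) ∨ typ (T v * wd [16, 4, 20]) = typ (T 1 * wd [16, 4, 20])) →
      typ (T 16 * T v) = typ (wd [16, 4]) ∧ T 16 * T v * (T 16 * T v) = 1 := by
  decide +kernel

theorem chain_top : wd [48] * wd [16] = wd [32] * wd [48] ∧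
    ∀ v, T v ≠ 1 → T v * wd wW = wd wW * T v →
      typ (wd wW * T v) ≠ typ (wd (rep 0)) ∧ typ (wd wW * T v) ≠ typ (wd (rep 2)) := by
  decide +kernel

end SpM

universe u

variable {G : Type u} [Group G] [Finite G]

namespace Frame3

namespace SixE.Emb

variable {F : Frame3 G} {D : F.SixE} (P : D.Emb)

theorem CM_lTr : P.CM SpM.lTr := by
  intro g hg
  have hs : ∀ {v : Fin 64}, P.ew [v] = P.τ v := fun {v} => by rw [P.ew_cons, P.ew_nil, mul_one]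
  refine P.cent_Tr ?_ ?_ ?_
  · rw [D.p0, ← P.τ_one, ← hs]; exact hg _ (by simp [SpM.lTr])
  · rw [D.p1, ← P.τ_four, ← hs]; exact hg _ (by simp [SpM.lTr])
  · rw [← P.τ_five, ← hs]; exact hg _ (by simp [SpM.lTr])

theorem CM_lW1 : P.CM SpM.lW1 := by
  intro g hg
  obtain ⟨e2, e3, -, -⟩ := base_words
  have hs : ∀ {v : Fin 64}, P.ew [v] = P.τ v := fun {v} => by rw [P.ew_cons, P.ew_nil, mul_one]
  refine P.cent_W1 ?_ ?_ ?_
  · rw [D.Φ0_12, ← P.τ_eight, ← hs]; exact hg _ (by simp [SpM.lW1])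
  · rw [← e2, P.Φ0_word]; exact hg _ (by simp [SpM.lW1, c0])
  · rw [← e3, P.Φ0_word]; exact hg _ (by simp [SpM.lW1, c0])

theorem CM_l40 : P.CM SpM.l40 := by
  obtain ⟨h1, h2, h3, h4⟩ := SpM.chain_conj.1
  exact P.CM_iso SpM.chain_iso.1 (P.CM_conj P.CM_lTr _ h1) (P.CM_conj P.CM_lW1 _ h2) (P.CM_conj P.CM_lW1 _ h3)
    (P.CM_conj P.CM_lW1 _ h4)

theorem CM_l7 : P.CM SpM.l7 := by
  obtain ⟨h1, h2, h3, h4⟩ := SpM.chain_conj.2.1
  exact P.CM_iso SpM.chain_iso.2.1 (P.CM_conj P.CM_lTr _ h1) (P.CM_conj P.CM_lW1 _ h2) (P.CM_conj P.CM_l40 _ h3)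
    (P.CM_conj P.CM_lW1 _ h4)

theorem CM_l18 : P.CM SpM.l18 := by
  obtain ⟨h1, h2, h3, h4⟩ := SpM.chain_conj.2.2.1
  exact P.CM_iso SpM.chain_iso.2.2.1 (P.CM_conj P.CM_l7 _ h1) (P.CM_conj P.CM_l7 _ h2) (P.CM_conj P.CM_l7 _ h3)
    (P.CM_conj P.CM_l7 _ h4)

theorem CM_s : P.CM [[16, 4]] := by
  obtain ⟨h1, h2, h3, h4⟩ := SpM.chain_conj.2.2.2
  exact P.CM_iso SpM.chain_iso.2.2.2.1 (P.CM_conj P.CM_l7 _ h1) (P.CM_conj P.CM_l7 _ h2) (P.CM_conj P.CM_l18 _ h3)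
    (P.CM_conj P.CM_l18 _ h4)

theorem CM_t : P.CM [[16, 4, 20]] := by
  classical
  obtain ⟨⟨hs2, hs1, -⟩, ⟨ht2, -, -⟩, -, ⟨h16, h1⟩⟩ := SpM.chain_sq
  obtain ⟨hsig, hc16, hc1, hc3, h31, hm, hfin⟩ := SpM.chain_t
  obtain ⟨C, hC⟩ : ∃ C, C = Subgroup.centralizer ({P.ew [16, 4, 20]} : Set G) := ⟨_, rfl⟩
  have hmemC : ∀ g, g ∈ C ↔ Commute g (P.ew [16, 4, 20]) := fun g => by
    rw [hC, Subgroup.mem_centralizer_singleton_iff]; rfl
  have hsame : ∀ {g : G}, g ∈ C → ∀ {v : Fin 64} {p : SpM.S}, SpM.wd [v] * SpM.wd [v] = 1 →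
      SpM.wd [v] * SpM.wd [16, 4, 20] = SpM.wd [16, 4, 20] * SpM.wd [v] →
      g * P.ew [v] * g⁻¹ = P.Ψ p →
      SpM.typ p.1 = SpM.typ (SpM.wd [v]) ∧
        SpM.typ (p.1 * SpM.wd [16, 4, 20]) = SpM.typ (SpM.wd [v] * SpM.wd [16, 4, 20]) := by
    intro g hg v p hv hvc e
    refine ⟨(P.typ_of_conj e (Subtype.ext hv)).2.symm, ?_⟩
    have e' : g * P.Ψ (⟨SpM.wd [v], SpM.wd_mem _⟩ * ⟨SpM.wd [16, 4, 20], SpM.wd_mem _⟩) * g⁻¹ =
        P.Ψ (p * ⟨SpM.wd [16, 4, 20], SpM.wd_mem _⟩) := by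
      rw [map_mul, map_mul, ← e]
      show g * (P.ew [v] * P.ew [16, 4, 20]) * g⁻¹ = g * P.ew [v] * g⁻¹ * P.ew [16, 4, 20]
      rw [mul_assoc (g * P.ew [v]), ((hmemC g).1 hg).inv_left.eq]; group
    exact (P.typ_of_conj e' (Subtype.ext (by
      show SpM.wd [v] * SpM.wd [16, 4, 20] * (SpM.wd [v] * SpM.wd [16, 4, 20]) = 1
      rw [(show Commute (SpM.wd [16, 4, 20]) (SpM.wd [v]) from hvc.symm).mul_mul_mul_comm, hv, ht2, one_mul]))).2.symm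
  have hw : ∀ v : Fin 64, SpM.wd [v] = SpM.T v := fun v => mul_one _
  have hconj : ∀ g ∈ C, g * P.ew [1] * g⁻¹ ∈ P.M := by
    refine conj_mem_of_dihedral C P.M (x := P.ew [16]) (y := P.ew [1]) ((hmemC _).2 (P.ew_comm hc16)) (P.ew_sq h16)
      ((hmemC _).2 (P.ew_comm hc1)) (P.ew_sq h1) ?_ ?_ ?_
    · intro g hg hgx
      refine P.CM_l7 g fun w hw => ?_
      simp only [SpM.l7, List.mem_cons, List.not_mem_nil, or_false] at hw
      rcases hw with rfl | rfl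
      · exact hgx
      · exact (hmemC g).1 hg
    · intro g hg e
      have := (hsame hg (p := ⟨SpM.wd [1], SpM.wd_mem _⟩) h16 hc16 e).2
      exact hsig (by simpa [hw] using this.symm)
    · intro z hzM hzC hz2 hz1 hzx hcj g _ hgz
      obtain ⟨q, hq⟩ := hzM
      obtain ⟨p, hp⟩ : ∃ p : SpM.S, p = ⟨SpM.wd [16], SpM.wd_mem _⟩ * q := ⟨_, rfl⟩
      have hxz : P.ew [16] * z = P.Ψ p := by rw [hp, map_mul, hq]; rfl
      have hxzC : P.ew [16] * z ∈ C := mul_mem ((hmemC _).2 (P.ew_comm hc16)) hzC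
      have hps : (SpM.typ p.1 = SpM.typ (SpM.wd [16]) ∨ SpM.typ p.1 = SpM.typ (SpM.wd [1])) ∧
          (SpM.typ (p.1 * SpM.wd [16, 4, 20]) = SpM.typ (SpM.wd [16] * SpM.wd [16, 4, 20]) ∨
            SpM.typ (p.1 * SpM.wd [16, 4, 20]) = SpM.typ (SpM.wd [1] * SpM.wd [16, 4, 20])) := by
        obtain ⟨c, hc, e | e⟩ := hcj <;> rw [hxz] at e
        · obtain ⟨a, b⟩ := hsame hc h16 hc16 e; exact ⟨Or.inl a, Or.inl b⟩
        · obtain ⟨a, b⟩ := hsame hc h1 hc1 e; exact ⟨Or.inr a, Or.inr b⟩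
      have hp2 : p * p = 1 := P.inj (by
        rw [map_mul, ← hxz, map_one, hzx.mul_mul_mul_comm, P.ew_sq h16, hz2, one_mul])
      obtain ⟨v, hv⟩ := SpM.eq_T p.2 (congrArg Subtype.val hp2) (by
        rcases hps.1 with e | e <;> rw [e, hw, SpM.typ_T _ (by decide)])
      have hq' : q.1 = SpM.T 16 * SpM.T v := by
        rw [← hv, hp, Subgroup.coe_mul]
        show q.1 = SpM.T 16 * (SpM.wd [16] * q.1)
        rw [hw, ← mul_assoc, SpM.T_sq, one_mul]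
      obtain ⟨ht, hsq⟩ := hfin v (by
          have := P.Ψ_inj (p := p * ⟨SpM.wd [16, 4, 20], SpM.wd_mem _⟩) (q := ⟨SpM.wd [16, 4, 20], SpM.wd_mem _⟩ * p)
            (by rw [map_mul, map_mul, ← hxz]; exact ((hmemC _).1 hxzC).eq)
          simpa [hv] using this)
        (by
          have := P.Ψ_inj (p := p * ⟨SpM.wd [16], SpM.wd_mem _⟩) (q := ⟨SpM.wd [16], SpM.wd_mem _⟩ * p)
            (by rw [map_mul, map_mul, ← hxz]; exact ((Commute.refl (P.ew [16])).mul_left hzx).eq)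
          simpa [hv, hw] using this)
        (fun e => hz1 (by rw [← hq, show q = 1 from Subtype.ext (hq'.trans e), map_one]))
        (by simpa [hv, hw] using hps.2)
      exact P.cent_class P.CM_s hs2 hs1 (q := q) (Subtype.ext (by rw [Subgroup.coe_mul, hq']; exact hsq))
        (by rw [hq']; exact ht) (hq.symm ▸ hgz)
  have hle : C ≤ P.M := by
    refine le_of_class_closure C P.M (y := P.ew [1]) (k := P.ew [1, 2]) hconj ?_ fun g hg h => ?_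
    · rw [show [1, 2] = ([1] : List (Fin 64)) ++ [2] from rfl, P.ew_append]
      refine mul_mem (Subgroup.subset_closure ⟨1, one_mem _, by group⟩)
        (Subgroup.subset_closure ⟨P.ew [3], (hmemC _).2 (P.ew_comm hc3), ?_⟩)
      rw [mul_inv_eq_iff_eq_mul, ← P.ew_append, ← P.ew_append]
      exact P.ew_eq (by simp only [SpM.wd_append, h31])
    · have hk : P.ew [1, 2] = P.ew [51, 34, 17] * F.j ev * (P.ew [51, 34, 17])⁻¹ := by
        rw [← P.ew_j ev, show jw ev = [16, 32] from rfl, eq_mul_inv_iff_mul_eq, ← P.ew_append, ← P.ew_append]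
        exact P.ew_eq (by simp only [SpM.wd_append, hm])
      have := P.strong (g := g * P.ew [51, 34, 17]) (by
        rw [show g * P.ew [51, 34, 17] * F.j ev * (g * P.ew [51, 34, 17])⁻¹ =
          g * (P.ew [51, 34, 17] * F.j ev * (P.ew [51, 34, 17])⁻¹) * g⁻¹ by group, ← hk]
        exact h)
      simpa using mul_mem this (inv_mem (P.ew_mem [51, 34, 17]))
  exact fun g hg => hle ((hmemC g).2 (hg _ (by simp)))

theorem CM_u : P.CM [[16, 4, 1]] := by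
  obtain ⟨⟨hs2, hs1, -⟩, ⟨ht2, ht1, -⟩, -, -⟩ := SpM.chain_sq
  obtain ⟨h1, h2, h3, h4⟩ := SpM.chain_six
  exact P.CM_iso SpM.chain_iso.2.2.2.2 (P.CM_class P.CM_t ht2 ht1 h1) (P.CM_class P.CM_s hs2 hs1 h2)
    (P.CM_class P.CM_s hs2 hs1 h3) (P.CM_class P.CM_s hs2 hs1 h4)

/-- The image is the whole group. -/
theorem range_eq_top : P.M = ⊤ := by
  obtain ⟨⟨hs2, hs1, hsr⟩, ⟨ht2, ht1, htr⟩, ⟨hu2, hu1, hur⟩, ⟨h16, -⟩⟩ := SpM.chain_sq
  obtain ⟨h32, hfin⟩ := SpM.chain_top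
  have hsq : ∀ i, SpM.wd (SpM.rep i) * SpM.wd (SpM.rep i) = 1 := fun i => (SpM.rep_sq i).1
  have hcls : ∀ i : Fin 4, i ≠ 0 → ∀ {q : SpM.S}, q * q = 1 → SpM.typ q.1 = SpM.typ (SpM.wd (SpM.rep i)) →
      ∀ g, Commute g (P.Ψ q) → g ∈ P.M := by
    intro i hi q hq ht g hg
    fin_cases i
    · exact absurd rfl hi
    · exact P.cent_class P.CM_s hs2 hs1 hq (ht.trans hsr.symm) hg
    · exact P.cent_class P.CM_t ht2 ht1 hq (ht.trans htr.symm) hg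
    · exact P.cent_class P.CM_u hu2 hu1 hq (ht.trans hur.symm) hg
  have hW : ∀ g, Commute g (P.ew (SpM.rep 2)) → g ∈ P.M := fun g hg =>
    hcls 2 (by decide) (q := ⟨SpM.wd (SpM.rep 2), SpM.wd_mem _⟩) (Subtype.ext (hsq 2)) rfl g hg
  have hconj : ∀ g ∈ (⊤ : Subgroup G), g * P.ew (SpM.rep 0) * g⁻¹ ∈ P.M := by
    refine conj_mem_of_dihedral ⊤ P.M (x := P.ew (SpM.rep 2)) (Subgroup.mem_top _) (P.ew_sq (hsq 2))
      (Subgroup.mem_top _) (P.ew_sq (hsq 0)) (fun g _ hg => hW g hg) ?_ ?_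
    · intro g _ e
      exact absurd (P.sep_rep e) (by decide)
    · intro z hzM _ hz2 hz1 hzx hcj g _ hgz
      obtain ⟨q, hq⟩ := hzM
      have hq2 : q * q = 1 := P.inj (by rw [map_mul, hq, hz2, map_one])
      have hq1 : q.1 ≠ 1 := fun e => hz1 (by rw [← hq, show q = 1 from Subtype.ext e, map_one])
      obtain ⟨m, hm, i, e, et⟩ := SpM.class_of q.2 (congrArg Subtype.val hq2) hq1
      by_cases hi : i = 0
      · exfalso
        subst hi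
        obtain ⟨v, hv⟩ := SpM.eq_T q.2 (congrArg Subtype.val hq2) et
        have hc : SpM.T v * SpM.wd (SpM.rep 2) = SpM.wd (SpM.rep 2) * SpM.T v := by
          have := P.Ψ_inj (p := q * ⟨SpM.wd (SpM.rep 2), SpM.wd_mem _⟩) (q := ⟨SpM.wd (SpM.rep 2), SpM.wd_mem _⟩ * q)
            (by rw [map_mul, map_mul, hq]; exact hzx.eq)
          simpa [hv] using this
        obtain ⟨hne0, hne2⟩ := hfin v (hv ▸ hq1) hc
        obtain ⟨p, hp⟩ : ∃ p : SpM.S, p = ⟨SpM.wd (SpM.rep 2), SpM.wd_mem _⟩ * q := ⟨_, rfl⟩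
        have hxz : P.ew (SpM.rep 2) * z = P.Ψ p := by rw [hp, map_mul, hq]; rfl
        have hpv : p.1 = SpM.wd SpM.wW * SpM.T v := by rw [hp, Subgroup.coe_mul, hv]; rfl
        obtain ⟨c, -, e' | e'⟩ := hcj <;> rw [hxz] at e'
        · exact hne2 (by rw [← hpv]; exact ((P.typ_of_conj e' (Subtype.ext (hsq 2))).2).symm)
        · exact hne0 (by rw [← hpv]; exact ((P.typ_of_conj e' (Subtype.ext (hsq 0))).2).symm)
      · exact hcls i hi hq2 et g (hq.symm ▸ hgz)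
  rw [eq_top_iff]
  refine le_of_class_closure ⊤ P.M (y := P.ew (SpM.rep 0)) (k := P.ew [16, 32]) hconj ?_ fun g _ h => ?_
  · rw [show [16, 32] = ([16] : List (Fin 64)) ++ [32] from rfl, P.ew_append]
    refine mul_mem (Subgroup.subset_closure ⟨1, one_mem _, ?_⟩)
      (Subgroup.subset_closure ⟨P.ew [48], Subgroup.mem_top _, ?_⟩)
    · rw [one_mul, inv_one, mul_one]; rfl
    · rw [mul_inv_eq_iff_eq_mul, ← P.ew_append, ← P.ew_append]
      exact P.ew_eq (by rw [SpM.wd_append, SpM.wd_append]; exact h32)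
  · rw [show ([16, 32] : List (Fin 64)) = jw ev from rfl, P.ew_j] at h
    exact P.strong h

end SixE.Emb

/-- The second case of the dichotomy. -/
theorem case_six (F : Frame3 G) (D : F.SixE) : Nonempty (G ≃* SpM.S) := by
  obtain ⟨P⟩ := D.exists_emb
  exact ⟨(MulEquiv.ofBijective P.Ψ ⟨P.inj, MonoidHom.range_eq_top.1 P.range_eq_top⟩).symm⟩

end Frame3

end CfsgPSp43Real
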