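import Cfsg.Agent.S1093
import Cfsg.Agent.Lib.SympSimple
import Cfsg.Agent.Lib.StemSylow.SpSixModel

/-!
`Sp(6,2)` on the 64 vectors, its generation by seven transvections with the relations of `E₇` and its involutions.
The vectors are coded by six bits in the order of three hyperbolic pairs.
-/

set_option autoImplicit false
set_option linter.style.haveILetI false
set_option maxRecDepth 8000
set_option synthInstance.maxSize 4000

namespace CfsgPSp43Real.SpM

open Equiv Matrix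
open CfsgLib.StemSylow.SpSix (F2 SpTwo VecSix)

/-- Parity of six bits. -/
def par (x : ℕ) : Bool :=
  let y := x ^^^ (x >>> 3)
  (y ^^^ (y >>> 1) ^^^ (y >>> 2)).testBit 0

/-- The symplectic form. -/
def B (u v : Fin 64) : Bool := par (u.val &&& (((v.val &&& 21) <<< 1) ||| ((v.val >>> 1) &&& 21)))

theorem T_invol : ∀ v x : Fin 64, (if B (if B x v then x ^^^ v else x) v then (if B x v then x ^^^ v else x) ^^^ v
    else (if B x v then x ^^^ v else x)) = x := by decide +kernel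

/-- The transvection. -/
def T (v : Fin 64) : Perm (Fin 64) where
  toFun x := if B x v then x ^^^ v else x
  invFun x := if B x v then x ^^^ v else x
  left_inv x := T_invol v x
  right_inv x := T_invol v x

theorem T_apply (v x : Fin 64) : T v x = if B x v then x ^^^ v else x := rfl

theorem T_sq (v : Fin 64) : T v * T v = 1 := Equiv.ext (T_invol v)

theorem T_zero : T 0 = 1 := by decide +kernel

/-- A product of transvections. -/
def wd (l : List (Fin 64)) : Perm (Fin 64) := (l.map T).prod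

theorem wd_nil : wd [] = 1 := rfl

theorem wd_cons (v : Fin 64) (l : List (Fin 64)) : wd (v :: l) = T v * wd l := List.prod_cons

/-- The group generated by the transvections. -/
def S : Subgroup (Perm (Fin 64)) := Subgroup.closure (Set.range T)

theorem T_mem (v : Fin 64) : T v ∈ S := Subgroup.subset_closure ⟨v, rfl⟩

theorem wd_mem (l : List (Fin 64)) : wd l ∈ S := by
  induction l with
  | nil => exact one_mem _
  | cons v l ih => rw [wd_cons]; exact mul_mem (T_mem v) ih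

/-- The vector of a code. -/
def toV (x : Fin 64) : VecSix :=
  Sum.elim (fun i => if x.val.testBit (2 * i.val) then 1 else 0)
    (fun i => if x.val.testBit (2 * i.val + 1) then 1 else 0)

/-- The code of six bits. -/
def code6 (a b c d e f : F2) : Fin 64 :=
  Fin.ofNat 64 (a.val + 2 * b.val + 4 * c.val + 8 * d.val + 16 * e.val + 32 * f.val)

/-- The code of a vector. -/
def ofV (v : VecSix) : Fin 64 :=
  code6 (v (.inl 0)) (v (.inr 0)) (v (.inl 1)) (v (.inr 1)) (v (.inl 2)) (v (.inr 2))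

theorem code6_spec : ∀ a b c d e f : F2, toV (code6 a b c d e f) (.inl 0) = a ∧
    toV (code6 a b c d e f) (.inr 0) = b ∧ toV (code6 a b c d e f) (.inl 1) = c ∧
    toV (code6 a b c d e f) (.inr 1) = d ∧ toV (code6 a b c d e f) (.inl 2) = e ∧
    toV (code6 a b c d e f) (.inr 2) = f := by decide +kernel

theorem toV_ofV (v : VecSix) : toV (ofV v) = v := by
  obtain ⟨h0, h1, h2, h3, h4, h5⟩ :=
    code6_spec (v (.inl 0)) (v (.inr 0)) (v (.inl 1)) (v (.inr 1)) (v (.inl 2)) (v (.inr 2))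
  funext s
  rcases s with i | i <;> fin_cases i <;> assumption

theorem ofV_toV : ∀ x : Fin 64, ofV (toV x) = x := by decide +kernel

theorem toV_inj {x y : Fin 64} (h : toV x = toV y) : x = y := by rw [← ofV_toV x, h, ofV_toV]

theorem toV_xor : ∀ a b : Fin 64, toV (a ^^^ b) = toV a + toV b := by decide +kernel

theorem toV_B : ∀ a b : Fin 64, CfsgLib.SympGen.B (toV a) (toV b) = if B a b then 1 else 0 := by decide +kernel

/-- The symplectic group on the codes. -/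
def ρ : SpTwo →* Perm (Fin 64) where
  toFun g :=
    { toFun := fun x => ofV (g.1 *ᵥ toV x)
      invFun := fun x => ofV ((g⁻¹ : SpTwo).1 *ᵥ toV x)
      left_inv := fun x => by
        show ofV ((g⁻¹ : SpTwo).1 *ᵥ toV (ofV (g.1 *ᵥ toV x))) = x
        rw [toV_ofV, ← CfsgLib.SympGen.mul_apply, inv_mul_cancel, CfsgLib.SympGen.one_apply, ofV_toV]
      right_inv := fun x => by
        show ofV (g.1 *ᵥ toV (ofV ((g⁻¹ : SpTwo).1 *ᵥ toV x))) = x
        rw [toV_ofV, ← CfsgLib.SympGen.mul_apply, mul_inv_cancel, CfsgLib.SympGen.one_apply, ofV_toV] }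
  map_one' := Equiv.ext fun x => by
    show ofV ((1 : SpTwo).1 *ᵥ toV x) = x
    rw [CfsgLib.SympGen.one_apply, ofV_toV]
  map_mul' g h := Equiv.ext fun x => by
    show ofV ((g * h).1 *ᵥ toV x) = ofV (g.1 *ᵥ toV (ofV (h.1 *ᵥ toV x)))
    rw [toV_ofV, CfsgLib.SympGen.mul_apply]

theorem toV_ρ (g : SpTwo) (x : Fin 64) : toV (ρ g x) = g.1 *ᵥ toV x := toV_ofV _

theorem ρ_inj : Function.Injective ρ := fun g h e => CfsgLib.SympSimple.ext_apply fun v => by
  have := congrArg toV (Equiv.congr_fun e (ofV v))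
  rwa [toV_ρ, toV_ρ, toV_ofV] at this

theorem ρ_tv (u : Fin 64) : ρ (CfsgLib.SympTransvection.tv (toV u) 1) = T u := Equiv.ext fun x => toV_inj (by
  rw [toV_ρ, CfsgLib.SympGen.tv_apply, one_mul, toV_B, T_apply]
  split <;> simp [toV_xor])

theorem range_ρ : ρ.range = S := by
  refine le_antisymm ?_ ((Subgroup.closure_le _).2 (by rintro _ ⟨u, rfl⟩; exact ⟨_, ρ_tv u⟩))
  rw [MonoidHom.range_eq_map, ← CfsgLib.SympGen.TV_eq_top, CfsgLib.SympGen.TV, MonoidHom.map_closure,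
    Subgroup.closure_le]
  rintro _ ⟨A, ⟨w, c, hA⟩, rfl⟩
  have hA' : A = CfsgLib.SympTransvection.tv w c := Subtype.ext hA
  rcases (by decide : ∀ c : F2, c = 0 ∨ c = 1) c with rfl | rfl
  · rw [hA', CfsgLib.SympSimple.tv_zero, map_one]; exact one_mem S
  · rw [hA', ← toV_ofV w, ρ_tv]; exact T_mem _

theorem exists_pre {g : Perm (Fin 64)} (hg : g ∈ S) : ∃ a : SpTwo, ρ a = g := by rwa [← range_ρ] at hg

theorem card_S : Nat.card S = 1451520 := by
  rw [← range_ρ, ← Nat.card_congr (MonoidHom.ofInjective ρ_inj).toEquiv,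
    CfsgLib.StemSylow.SpSix.card_spTwo]

theorem xor_map {g : Perm (Fin 64)} (hg : g ∈ S) (a b : Fin 64) : g (a ^^^ b) = g a ^^^ g b := by
  obtain ⟨A, rfl⟩ := exists_pre hg
  exact toV_inj (by rw [toV_ρ, toV_xor, toV_xor, toV_ρ, toV_ρ, Matrix.mulVec_add])

theorem B_map {g : Perm (Fin 64)} (hg : g ∈ S) (a b : Fin 64) : B (g a) (g b) = B a b := by
  obtain ⟨A, rfl⟩ := exists_pre hg
  have h := toV_B (ρ A a) (ρ A b)
  rw [toV_ρ, toV_ρ, CfsgLib.SympGen.B_map, toV_B] at h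
  revert h
  cases B a b <;> cases B (ρ A a) (ρ A b) <;> decide

theorem conj_T {g : Perm (Fin 64)} (hg : g ∈ S) (v : Fin 64) : g * T v * g⁻¹ = T (g v) := by
  obtain ⟨A, rfl⟩ := exists_pre hg
  rw [← ρ_tv, ← map_inv, ← map_mul, ← map_mul, CfsgLib.SympGen.conj_tv, ← toV_ρ, ρ_tv]

theorem basis_split : ∀ x : Fin 64, x = (if x.val.testBit 0 then 1 else 0) ^^^ (if x.val.testBit 1 then 2 else 0) ^^^
    (if x.val.testBit 2 then 4 else 0) ^^^ (if x.val.testBit 3 then 8 else 0) ^^^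
    (if x.val.testBit 4 then 16 else 0) ^^^ (if x.val.testBit 5 then 32 else 0) := by decide +kernel

theorem map_zero {g : Perm (Fin 64)} (hg : g ∈ S) : g 0 = 0 := by
  have h := xor_map hg 0 0
  have hd : ∀ a : Fin 64, a ^^^ a = 0 := by decide +kernel
  rwa [show (0 : Fin 64) ^^^ 0 = 0 from rfl, hd] at h

/-- An element is determined by the basis. -/
theorem ext_basis {g h : Perm (Fin 64)} (hg : g ∈ S) (hh : h ∈ S)
    (e : ∀ i ∈ ([1, 2, 4, 8, 16, 32] : List (Fin 64)), g i = h i) : g = h := by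
  refine Equiv.ext fun x => ?_
  have key : ∀ (b : Bool), ∀ i ∈ ([1, 2, 4, 8, 16, 32] : List (Fin 64)),
      g (if b then i else 0) = h (if b then i else 0) := fun b i hi => by
    cases b
    · simp [map_zero hg, map_zero hh]
    · simpa using e i hi
  rw [basis_split x]
  simp only [xor_map hg, xor_map hh]
  rw [key _ 1 (by simp), key _ 2 (by simp), key _ 4 (by simp), key _ 8 (by simp), key _ 16 (by simp),
    key _ 32 (by simp)]

/-! ### Tables -/

/-- A table. -/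
def mv1 : List (List (Fin 64)) :=
  [[], [], [3], [2], [15, 10], [6, 2], [7], [6], [15, 6], [10, 2], [11], [10], [11, 6], [14, 2], [15], [14], [51, 34], [18, 2], [19], [18], [31, 10], [22, 2], [23], [22], [31, 6], [26, 2], [27], [26], [27, 6], [30, 2], [31], [30], [51, 18], [34, 2], [35], [34], [47, 10], [38, 2], [39], [38], [47, 6], [42, 2], [43], [42], [43, 6], [46, 2], [47], [46], [35, 18], [50, 2], [51], [50], [63, 10], [54, 2], [55], [54], [63, 6], [58, 2], [59], [58], [59, 6], [62, 2], [63], [62]]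

/-- A table. -/
def mv2 : List (List (Fin 64)) :=
  [[], [], [], [], [], [9, 8], [], [], [12], [13], [], [], [8], [9], [], [], [60, 40], [61, 40], [], [], [24, 8], [25, 8], [], [], [28], [29], [], [], [24], [25], [], [], [60, 24], [61, 24], [], [], [40, 8], [41, 8], [], [], [44], [45], [], [], [40], [41], [], [], [44, 24], [45, 24], [], [], [56, 8], [57, 8], [], [], [60], [61], [], [], [56], [57], [], []]

/-- A table. -/
def mv3 : List (List (Fin 64)) :=
  [[], [], [], [], [], [], [], [], [], [], [], [], [], [], [], [], [], [33, 32], [], [], [36, 32], [37, 32], [], [], [], [], [], [], [], [], [], [], [48], [49], [], [], [52], [53], [], [], [], [], [], [], [], [], [], [], [32], [33], [], [], [36], [37], [], [], [], [], [], [], [], [], [], []]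

/-- A table. -/
def clIdx : List (Fin 4) :=
  [0, 0, 0, 1, 0, 1, 1, 3, 0, 1, 1, 2, 1, 3, 3, 3, 0, 1, 1, 3, 1, 2, 3, 3, 1, 3, 3, 3, 3, 3, 2, 1, 0, 1, 1, 3, 1, 3, 2, 3, 1, 3, 3, 3, 3, 2, 3, 1, 1, 3, 3, 2, 3, 3, 3, 1, 2, 3, 3, 1, 3, 1, 1, 0]

/-- A table. -/
def clWd : List (List (Fin 64)) :=
  [[], [34, 51], [40, 60], [], [], [40, 60], [34, 51], [27, 32, 37], [34, 55], [8, 9], [2, 6], [11], [2, 6, 42, 62], [2, 9, 18, 32, 36], [2, 6, 24, 32, 33], [11], [32, 33], [40, 61], [2, 18], [27, 32, 36], [2, 6, 40, 60], [11, 40, 60], [2, 6, 24, 34, 55], [11, 40, 60], [2, 6, 10, 31], [2, 6, 24, 42, 47], [2, 6, 24], [11, 32, 33], [2, 6, 24, 40, 60], [11, 40, 61], [2, 6, 24], [2, 6, 8, 24], [32, 36], [8, 24], [34, 55], [27, 32, 33], [8, 9, 34, 51], [2, 9, 18, 34, 55], [11, 34, 51], [11, 34, 51], [2, 6, 10, 26], [2, 9, 18], [2, 6, 24, 32, 37], [11, 32, 36], [2, 9, 18, 34, 51], [2, 9, 18], [11, 34, 55], [2, 8, 11, 18], [10, 26], [11, 42, 62], [11,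 42, 59], [33, 59], [11, 32, 37], [27, 34, 38], [27, 40, 41], [2, 6, 42, 59], [27], [27, 34, 51], [27, 40, 60], [42, 59], [27], [2, 22], [8, 25], [32, 37]]

/-- A table. -/
def genPath : List (List (Fin 64)) :=
  [[], [], [], [2], [24, 32, 16, 5, 24, 32, 2, 5, 24, 8, 5, 2], [], [5, 2], [5], [], [5, 24, 32, 16, 8, 5, 24, 32, 2, 5, 24, 8, 5, 2], [1, 2, 5, 24, 32, 16, 8, 5, 24, 32, 2, 5, 24, 8, 5, 2], [2, 5, 24, 32, 16, 8, 5, 24, 32, 2, 5, 24, 8, 5, 2], [24, 32, 16, 8, 5, 24, 32, 2, 5, 24, 8, 5, 2], [5], [8, 5, 2], [2, 5], [], [2, 5, 24, 8, 5, 2], [5, 24, 2, 5], [5, 24, 8, 5, 2], [32, 16, 8, 5, 24, 32, 2, 5, 24, 8, 5, 2], [24, 5], [24, 8, 5, 2], [24, 2, 5], [], [32, 16, 24, 32, 2, 5, 24, 8, 5, 2], [32, 16, 24, 32, 5, 24, 2, 5], [32, 16, 24, 32, 5, 24, 8, 5, 2], [32, 16, 5, 24, 32, 2, 5, 24, 8, 5, 2], [24], [24, 5, 2], [24, 5], [], [16, 32, 2, 5, 24, 8, 5, 2], [16, 32, 5, 24, 2, 5], [16, 32, 5, 24, 8, 5, 2], [8, 5, 24, 32, 2, 5, 24,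 8, 5, 2], [16, 32, 24, 5], [16, 32, 24, 8, 5, 2], [16, 32, 24, 2, 5], [16, 32], [24, 32, 2, 5, 24, 8, 5, 2], [24, 32, 5, 24, 2, 5], [24, 32, 5, 24, 8, 5, 2], [5, 24, 32, 2, 5, 24, 8, 5, 2], [16, 32, 24], [16, 32, 24, 5, 2], [16, 32, 24, 5], [16], [32, 2, 5, 24, 8, 5, 2], [32, 5, 24, 2, 5], [32, 5, 24, 8, 5, 2], [16, 8, 5, 24, 32, 2, 5, 24, 8, 5, 2], [32, 24, 5], [32, 24, 8, 5, 2], [32, 24, 2, 5], [32], [16, 24, 32, 2, 5, 24, 8, 5, 2], [16, 24, 32, 5, 24, 2, 5], [16, 24, 32, 5, 24, 8, 5, 2], [16, 5, 24, 32, 2, 5, 24, 8, 5, 2], [32, 24], [32, 24, 5, 2], [32, 24, 5]]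

/-- The block exchange. -/
def wW : List (Fin 64) := [10, 15, 5]

/-- The representatives of the classes of involutions. -/
def rep : Fin 4 → List (Fin 64) := ![[16], [1, 4], wW, 16 :: wW]

/-- The elements fixing a Lagrangian. -/
def sym (s : Fin 64) : List (Fin 64) :=
  ([(0, 1), (1, 4), (2, 16), (3, 5), (4, 17), (5, 20)] : List (ℕ × Fin 64)).filterMap
    fun p => if s.val.testBit p.1 then some p.2 else none

theorem mv1_ok : ∀ v : Fin 64, v ≠ 0 → wd (mv1.getD v.val []) v = 1 := by decide +kernel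

theorem mv2_ok : ∀ v : Fin 64, v ≠ 0 → v ≠ 1 → B v 1 = false →
    wd (mv2.getD v.val []) v = 4 ∧ wd (mv2.getD v.val []) 1 = 1 := by decide +kernel

theorem mv3_ok : ∀ v : Fin 64, v ∉ ([0, 1, 4, 5] : List (Fin 64)) → B v 1 = false → B v 4 = false →
    wd (mv3.getD v.val []) v = 16 ∧ wd (mv3.getD v.val []) 1 = 1 ∧ wd (mv3.getD v.val []) 4 = 4 := by
  decide +kernel

/-- The vectors of the fixed Lagrangian. -/
def lag : List (Fin 64) := [0, 1, 4, 5, 16, 17, 20, 21]

theorem lag_facts : (∀ x : Fin 64, B x 1 = false → B x 4 = false → B x 16 = false → x ∈ lag) ∧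
    (∀ x : Fin 64, x ≠ 0 → ∃ y : Fin 64, B x y = true) ∧ (∀ a x : Fin 64, a ^^^ (a ^^^ x) = x) ∧
    (∀ a b : Fin 64, B a b = B b a) ∧ (∀ a b : Fin 64, a ^^^ b = b ^^^ a) ∧
    (∀ a : Fin 64, B a 0 = false ∧ B 0 a = false ∧ 0 ^^^ a = a) := by decide +kernel

theorem B_xor (a b c : Fin 64) : B (a ^^^ b) c = (B a c ^^ B b c) := by
  have h := toV_B (a ^^^ b) c
  rw [toV_xor, CfsgLib.SympGen.B_add_left, toV_B, toV_B] at h
  revert h
  cases B a c <;> cases B b c <;> cases B (a ^^^ b) c <;> decide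

theorem inv_app (m : Perm (Fin 64)) (x : Fin 64) : m (m⁻¹ x) = x ∧ m⁻¹ (m x) = x :=
  ⟨m.apply_symm_apply x, m.symm_apply_apply x⟩

theorem sym_all : ∀ a ∈ lag, ∀ b ∈ lag, ∀ c ∈ lag, B (2 ^^^ a) (8 ^^^ b) = false → B (2 ^^^ a) (32 ^^^ c) = false →
    B (8 ^^^ b) (32 ^^^ c) = false → ∃ s : Fin 64, wd (sym s) 1 = 1 ∧ wd (sym s) 4 = 4 ∧ wd (sym s) 16 = 16 ∧
      wd (sym s) 2 = 2 ^^^ a ∧ wd (sym s) 8 = 8 ^^^ b ∧ wd (sym s) 32 = 32 ^^^ c := by decide +kernel

theorem sym_class : ∀ s : Fin 64, s ≠ 0 →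
    wd (clWd.getD s.val []) * wd (sym s) = wd (rep (clIdx.getD s.val 0)) * wd (clWd.getD s.val []) := by
  decide +kernel

theorem sym_zero : wd (sym 0) = 1 := by decide +kernel

/-- An involution with image in the fixed Lagrangian is conjugate to a representative. -/
theorem classify_lag {g : Perm (Fin 64)} (hg : g ∈ S) (h2 : g * g = 1) (h1 : g ≠ 1)
    (hl : ∀ x, g x ^^^ x ∈ lag) : ∃ m ∈ S, ∃ i, m * g * m⁻¹ = wd (rep i) := by
  obtain ⟨hperp, hnd, hxx, hBs, hxc, h0⟩ := lag_facts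
  have hself : ∀ x, g (g x) = x := fun x => Equiv.congr_fun h2 x
  have hfix : ∀ z ∈ lag, g z = z := by
    intro z hz
    by_contra hne
    obtain ⟨y, hy⟩ := hnd (z ^^^ g z) fun h => hne (by
      have := hxx z (g z); rw [h] at this
      simpa using this.symm)
    -- the form of the image against the vector
    obtain ⟨l, hl'⟩ : ∃ l, l = g y ^^^ y := ⟨_, rfl⟩
    have hzl : B z l = false := by
      have : ∀ a ∈ lag, ∀ b ∈ lag, B a b = false := by decide +kernel
      exact this z hz l (hl' ▸ hl y)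
    have e1 : B (g z) y = B z (g y) := by rw [← B_map hg (g z) y, hself]
    have e2 : g y = l ^^^ y := by rw [hl', hxc (g y) y, hxc (y ^^^ g y) y, hxx]
    rw [B_xor, e1, e2, hBs z (l ^^^ y), B_xor, hBs l z, hzl, hBs y z] at hy
    revert hy
    cases B z y <;> decide
  have himg : ∀ q, ∃ a ∈ lag, g q = q ^^^ a := fun q => ⟨g q ^^^ q, hl q, by rw [hxc (g q) q, hxx]⟩
  obtain ⟨a, ha, ea⟩ := himg 2
  obtain ⟨b, hb, eb⟩ := himg 8
  obtain ⟨c, hc, ec⟩ := himg 32
  obtain ⟨s, s1, s4, s16, s2, s8, s32⟩ := sym_all a ha b hb c hc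
    (by rw [← ea, ← eb, B_map hg]; rfl) (by rw [← ea, ← ec, B_map hg]; rfl) (by rw [← eb, ← ec, B_map hg]; rfl)
  have hgs : g = wd (sym s) := ext_basis hg (wd_mem _) fun i hi => by
    simp only [List.mem_cons, List.not_mem_nil, or_false] at hi
    rcases hi with rfl | rfl | rfl | rfl | rfl | rfl
    · rw [s1]; exact hfix 1 (by decide)
    · rw [s2, ea]
    · rw [s4]; exact hfix 4 (by decide)
    · rw [s8, eb]
    · rw [s16]; exact hfix 16 (by decide)
    · rw [s32, ec]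
  have hs0 : s ≠ 0 := by
    rintro rfl
    exact h1 (hgs.trans sym_zero)
  refine ⟨_, wd_mem (clWd.getD s.val []), clIdx.getD s.val 0, ?_⟩
  rw [hgs, sym_class s hs0, mul_inv_cancel_right]

/-- Every involution is conjugate to one of the four representatives. -/
theorem classify {g : Perm (Fin 64)} (hg : g ∈ S) (h2 : g * g = 1) (h1 : g ≠ 1) :
    ∃ m ∈ S, ∃ i, m * g * m⁻¹ = wd (rep i) := by
  obtain ⟨hperp, hnd, hxx, hBs, hxc, h0⟩ := lag_facts
  have hself : ∀ x, g (g x) = x := fun x => Equiv.congr_fun h2 x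
  have hTI : ∀ x y, B (g x ^^^ x) (g y ^^^ y) = false := fun x y => by
    have e : B x (g y) = B (g x) y := by rw [← B_map hg x (g y), hself]
    rw [B_xor, hBs (g x) (g y ^^^ y), B_xor, hBs x (g y ^^^ y), B_xor, hBs (g y) (g x), B_map hg,
      hBs y (g x), hBs (g y) x, e, hBs y x]
    cases B x y <;> cases B (g x) y <;> rfl
  -- the image of a conjugate
  have himg : ∀ m ∈ S, ∀ x, (m * g * m⁻¹) x ^^^ x = m (g (m⁻¹ x) ^^^ m⁻¹ x) := fun m hm x => by
    rw [xor_map hm, (inv_app m x).1]; rfl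
  suffices h : ∃ m ∈ S, ∀ x, m (g x ^^^ x) ∈ lag by
    obtain ⟨m, hm, hml⟩ := h
    obtain ⟨n, hn, i, e⟩ := classify_lag (mul_mem (mul_mem hm hg) (inv_mem hm))
      (by rw [conj_mul, h2, mul_one, mul_inv_cancel]) (fun e => h1 (conj_eq_one_iff.1 e))
      (fun x => himg m hm x ▸ hml _)
    exact ⟨n * m, mul_mem hn hm, i, by rw [← e]; group⟩
  by_cases c1 : ∀ x, g x ^^^ x = 0
  · exact ⟨1, one_mem _, fun x => by rw [c1]; decide⟩
  push Not at c1
  obtain ⟨x1, hx1⟩ := c1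
  obtain ⟨m1, hm1⟩ : ∃ m, m = wd (mv1.getD (g x1 ^^^ x1).val []) := ⟨_, rfl⟩
  have hm1S : m1 ∈ S := hm1 ▸ wd_mem _
  have e1 : m1 (g x1 ^^^ x1) = 1 := hm1 ▸ mv1_ok _ hx1
  have hB1 : ∀ m ∈ S, ∀ x0 (v : Fin 64), m (g x0 ^^^ x0) = v → ∀ x, B (m (g x ^^^ x)) v = false :=
    fun m hm x0 v e x => by rw [← e, B_map hm]; exact hTI x x0
  by_cases c2 : ∀ x, m1 (g x ^^^ x) = 0 ∨ m1 (g x ^^^ x) = 1
  · exact ⟨m1, hm1S, fun x => by rcases c2 x with h | h <;> rw [h] <;> decide⟩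
  push Not at c2
  obtain ⟨x2, hx2a, hx2b⟩ := c2
  obtain ⟨m2, hm2⟩ : ∃ m, m = wd (mv2.getD (m1 (g x2 ^^^ x2)).val []) * m1 := ⟨_, rfl⟩
  have hm2S : m2 ∈ S := hm2 ▸ mul_mem (wd_mem _) hm1S
  obtain ⟨h24, h21⟩ := mv2_ok _ hx2a hx2b (hB1 m1 hm1S x1 1 e1 x2)
  have f1 : m2 (g x1 ^^^ x1) = 1 := by rw [hm2, Equiv.Perm.mul_apply, e1, h21]
  have f2 : m2 (g x2 ^^^ x2) = 4 := by rw [hm2, Equiv.Perm.mul_apply, h24]
  by_cases c3 : ∀ x, m2 (g x ^^^ x) ∈ ([0, 1, 4, 5] : List (Fin 64))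
  · exact ⟨m2, hm2S, fun x =>
      (by decide +kernel : ∀ v ∈ ([0, 1, 4, 5] : List (Fin 64)), v ∈ lag) _ (c3 x)⟩
  push Not at c3
  obtain ⟨x3, hx3⟩ := c3
  obtain ⟨h316, h31, h34⟩ := mv3_ok _ hx3 (hB1 m2 hm2S x1 1 f1 x3) (hB1 m2 hm2S x2 4 f2 x3)
  obtain ⟨m3, hm3⟩ : ∃ m, m = wd (mv3.getD (m2 (g x3 ^^^ x3)).val []) * m2 := ⟨_, rfl⟩
  have hm3S : m3 ∈ S := hm3 ▸ mul_mem (wd_mem _) hm2S
  refine ⟨m3, hm3S, fun x => hperp _ (hB1 m3 hm3S x1 1 ?_ x) (hB1 m3 hm3S x2 4 ?_ x) (hB1 m3 hm3S x3 16 ?_ x)⟩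
  · rw [hm3, Equiv.Perm.mul_apply, f1, h31]
  · rw [hm3, Equiv.Perm.mul_apply, f2, h34]
  · rw [hm3, Equiv.Perm.mul_apply, h316]

/-! ### The invariant of a class -/

/-- The number of fixed vectors and whether the element is alternating. -/
def typ (g : Perm (Fin 64)) : ℕ × Bool :=
  ((Finset.univ.filter fun x => g x = x).card, decide (∀ x, B x (g x) = false))

theorem typ_conj {m : Perm (Fin 64)} (hm : m ∈ S) (g : Perm (Fin 64)) : typ (m * g * m⁻¹) = typ g := by
  refine Prod.ext ?_ (decide_eq_decide.2 ⟨fun h x => ?_, fun h x => ?_⟩)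
  · show (Finset.univ.filter fun x => (m * g * m⁻¹) x = x).card = (Finset.univ.filter fun x => g x = x).card
    refine Finset.card_equiv m⁻¹ fun x => ?_
    rw [Finset.mem_filter, Finset.mem_filter]
    simp only [Finset.mem_univ, true_and, Equiv.Perm.mul_apply]
    exact ⟨fun h => m.injective (by rw [h, (inv_app m x).1]),
      fun h => by rw [h, (inv_app m x).1]⟩
  · have := h (m x)
    rwa [Equiv.Perm.mul_apply, Equiv.Perm.mul_apply, (inv_app m x).2, B_map hm] at this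
  · rw [← B_map (inv_mem hm), Equiv.Perm.mul_apply, Equiv.Perm.mul_apply, (inv_app m (g (m⁻¹ x))).2]
    exact h _

theorem typ_rep : ∀ i j : Fin 4, typ (wd (rep i)) = typ (wd (rep j)) → i = j := by decide +kernel

/-! ### The generators of type `E₇` -/

/-- The vectors of the seven generators. -/
def gv : Fin 7 → Fin 64 := ![1, 8, 2, 5, 24, 32, 16]

theorem gv_rel : ∀ i j : Fin 7, (T (gv i) * T (gv j)) ^ (CoxeterMatrix.E₇.M i j) = 1 := by decide +kernel

/-- The map of the Coxeter group. -/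
def π : CoxeterMatrix.E₇.Group →* Perm (Fin 64) :=
  CoxeterMatrix.E₇.toCoxeterSystem.lift ⟨fun i => T (gv i), gv_rel⟩

theorem π_simple (i : Fin 7) : π (CoxeterMatrix.E₇.simple i) = T (gv i) :=
  CoxeterMatrix.E₇.toCoxeterSystem.lift_apply_simple gv_rel i

theorem path_ok : ∀ v : Fin 64, v ≠ 0 →
    ∃ i, (genPath.getD v.val []).foldl (fun x g => T g x) v = gv i ∧
      ∀ g ∈ genPath.getD v.val [], ∃ j, g = gv j := by decide +kernel

theorem range_π : π.range = S := by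
  refine le_antisymm ?_ ((Subgroup.closure_le _).2 ?_)
  · rintro _ ⟨w, rfl⟩
    induction w using CoxeterMatrix.E₇.toCoxeterSystem.simple_induction with
    | simple i => exact (π_simple i) ▸ T_mem _
    | one => rw [map_one]; exact one_mem _
    | mul a b ha hb => rw [map_mul]; exact mul_mem ha hb
  · have key : ∀ (l : List (Fin 64)) (v : Fin 64), (∀ g ∈ l, ∃ j, g = gv j) →
        T (l.foldl (fun x g => T g x) v) ∈ π.range → T v ∈ π.range := by
      intro l
      induction l with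
      | nil => exact fun v _ h => h
      | cons g l ih =>
        intro v hl h
        obtain ⟨j, hj⟩ := hl g (by simp)
        have hg : T g ∈ π.range := ⟨_, (π_simple j).trans (congrArg T hj.symm)⟩
        have hgv := ih (T g v) (fun x hx => hl x (by simp [hx])) h
        rw [← conj_T (T_mem g) v] at hgv
        have := mul_mem (mul_mem (inv_mem hg) hgv) hg
        rwa [show (T g)⁻¹ * (T g * T v * (T g)⁻¹) * T g = T v by group] at this
    rintro _ ⟨v, rfl⟩
    by_cases hv : v = 0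
    · subst hv; rw [T_zero]; exact one_mem _
    · obtain ⟨i, hi, hl⟩ := path_ok v hv
      exact key _ v hl (hi ▸ ⟨_, π_simple i⟩)

/-- The kernel is central of order two. -/
theorem ker_π : Nat.card π.ker = 2 ∧ ∀ c ∈ π.ker, ∀ w, Commute c w := by
  have hE := Cfsg.Agent.S1093.result (⟨7, CoxeterMatrix.E₇⟩, 2903040) (by simp)
  change Nat.card CoxeterMatrix.E₇.Group = 2903040 at hE
  have h : Nat.card π.ker * Nat.card π.range = Nat.card CoxeterMatrix.E₇.Group :=
    (congrArg _ (Subgroup.index_ker π).symm).trans π.ker.card_mul_index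
  rw [range_π, card_S, hE] at h
  have h2 : Nat.card π.ker = 2 := Nat.eq_of_mul_eq_mul_right (m := 1451520) (by norm_num) (h.trans (by norm_num))
  refine ⟨h2, fun c hc w => ?_⟩
  haveI : Finite CoxeterMatrix.E₇.Group := Nat.finite_of_card_ne_zero (by rw [hE]; norm_num)
  obtain ⟨z, hz⟩ := Nat.card_eq_two_iff' (1 : π.ker) |>.1 h2
  by_cases h1 : c = 1
  · rw [h1]; exact Commute.one_left _
  have hcw : w * c * w⁻¹ ∈ π.ker := (MonoidHom.normal_ker π).conj_mem c hc w
  have e1 := hz.2 ⟨c, hc⟩ (fun e => h1 (congrArg Subtype.val e))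
  have e2 := hz.2 ⟨w * c * w⁻¹, hcw⟩ (fun e => h1 (conj_eq_one_iff.1 (congrArg Subtype.val e)))
  exact (mul_inv_eq_iff_eq_mul.1 (congrArg Subtype.val (e2.trans e1.symm))).symm

/-! ### Simplicity -/

theorem simple_S : IsSimpleGroup S := by
  have hcen : Subgroup.center (Matrix.symplecticGroup (Fin 3) F2) = ⊥ :=
    Subgroup.eq_bot_of_card_eq _ (by rw [CfsgLib.SympTransvection.card_center (by norm_num), ZMod.card]; norm_num)
  haveI := CfsgLib.SympSimple.simple (F := F2) (m := 3) (by norm_num) (fun h => absurd h (by norm_num))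
  let e : S ≃* Cfsg.PSp 3 F2 :=
    ((MulEquiv.subgroupCongr range_ρ).symm.trans (MonoidHom.ofInjective ρ_inj).symm).trans
      ((QuotientGroup.quotientMulEquivOfEq hcen).trans QuotientGroup.quotientBot).symm
  haveI : Nontrivial S := e.toEquiv.nontrivial
  exact IsSimpleGroup.isSimpleGroup_of_surjective e.symm.toMonoidHom e.symm.surjective

end CfsgPSp43Real.SpM
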