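import Cfsg.Agent.Lib.PSp43Real.Sp.Loc
import Cfsg.Agent.Lib.PSp43Real.Sp.Model

/-!
The seven involutions satisfy the relations of `E₇` and give an embedding of `Sp(6,2)`.
-/

set_option autoImplicit false
set_option linter.style.haveILetI false
set_option synthInstance.maxSize 4000
set_option maxRecDepth 8000

namespace CfsgPSp43Real

open Subgroup Equiv Equiv.Perm
open CfsgLib.Sym9Three (V3 xv Mon Sub tr rot act ev rt3)

/-- The five transpositions generating the permutations of the first pair of blocks. -/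
def s2 : Fin 5 → Perm (Fin 6) := ![swap 0 1, swap 1 2, swap 2 5, swap 4 5, swap 3 4]

/-- Their vectors. -/
def c2 : Fin 5 → Fin 64 := ![1, 2, 5, 8, 4]

/-- The five transpositions generating the permutations of the last pair of blocks. -/
def s0 : Fin 5 → Perm (Fin 6) := ![swap 0 1, swap 1 2, swap 0 5, swap 4 5, swap 3 4]

/-- Their vectors. -/
def c0 : Fin 5 → Fin 64 := ![4, 8, 24, 32, 16]

/-- The permutations of the nodes of the first kind. -/
def nodeP : Fin 7 → Perm (Fin 6) := ![swap 0 1, swap 4 5, swap 1 2, swap 2 5, 1, 1, 1]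

theorem node_rel : ∀ i j : Fin 7, i.val < 4 → j.val < 4 →
    (nodeP i * nodeP j) ^ (CoxeterMatrix.E₇.M i j) = 1 := by decide +kernel

theorem node_two (i j : Fin 7) (hi : i.val < 4) (hj : 5 ≤ j.val) : CoxeterMatrix.E₇.M i j = 2 := by
  fin_cases i <;> fin_cases j <;> first | rfl | exact absurd hi (by decide) | exact absurd hj (by decide)

theorem node_sq : ∀ i : Fin 7, i.val < 4 → nodeP i * nodeP i = 1 := by decide +kernel

theorem node_four : CoxeterMatrix.E₇.M 4 3 = 3 ∧ CoxeterMatrix.E₇.M 4 0 = 2 ∧ CoxeterMatrix.E₇.M 4 2 = 2 := by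
  decide +kernel

theorem node_four' : (swap (0 : Fin 6) 5 * swap 1 2) ^ (CoxeterMatrix.E₇.M 4 1) = 1 ∧
    (swap (0 : Fin 6) 5 * swap 4 5) ^ (CoxeterMatrix.E₇.M 4 5) = 1 ∧
    (swap (0 : Fin 6) 5 * swap 3 4) ^ (CoxeterMatrix.E₇.M 4 6) = 1 := by decide +kernel

theorem node_mon : (rt3 * tr ev * (rt3 * tr ev) = 1 ∧ (rot 6 * tr u0) * (rot 6 * tr u0) = 1) ∧
    (rt3 * tr ev * rt3) ^ (CoxeterMatrix.E₇.M 5 6) = 1 ∧ (rt3 * (rt3 * tr ev)) ^ (CoxeterMatrix.E₇.M 6 5) = 1 := by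
  decide +kernel

theorem six_words : ([0, 1, 0, 2, 1, 0, 3, 2, 1, 0, 4, 3, 2, 1, 0].map s2).prod = cW ∧
    ([2, 0, 1, 3, 2, 0, 4, 3, 2].map s0).prod = cW := by decide +kernel

theorem six_cent : ∀ σ : Perm (Fin 6), σ * swap 0 1 = swap 0 1 * σ → σ * swap 1 2 = swap 1 2 * σ →
    σ * swap 2 5 = swap 2 5 * σ → (σ = 1 ∨ σ = swap 3 4) ∧ (σ * swap 4 5 = swap 4 5 * σ → σ = 1) := by decide +kernel

universe u

variable {G : Type u} [Group G]

namespace Frame3

variable {F : Frame3 G} (D : F.SixE)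

/-- The seven involutions. -/
def SixE.gen : Fin 7 → G :=
  ![F.φ (rot 6), D.Φ (swap 4 5), D.Φ (swap 1 2), D.Φ (swap 2 5), D.Φ0 (swap 0 5), F.φ (rt3 * tr ev), F.φ rt3]

theorem SixE.gen_node (i : Fin 7) (hi : i.val < 4) : D.gen i = D.Φ (nodeP i) := by
  fin_cases i
  · exact D.p0.symm
  · rfl
  · rfl
  · rfl
  all_goals exact absurd hi (by decide)

variable [Finite G]

/-- The braid relation between the two symmetric groups. -/
theorem SixE.braid : (D.Φ0 (swap 0 5) * D.Φ (swap 2 5)) ^ 3 = 1 := by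
  have h35 : D.Φ (swap 3 5) = D.Φ0 (swap 0 2) := by
    rw [show swap (3 : Fin 6) 5 = swap 3 4 * swap 4 5 * swap 3 4 by decide +kernel,
      show swap (0 : Fin 6) 2 = swap 0 1 * swap 1 2 * swap 0 1 by decide +kernel, map_mul, map_mul, map_mul, map_mul,
      D.p1, D.Φ_45, D.Φ0_01, D.Φ0_12]
  have hc := D.cross
  have ex : D.Φ (swap 2 5) = D.Φ (swap 2 3) * D.Φ0 (swap 0 2) * D.Φ (swap 2 3) := by
    rw [← h35, ← map_mul, ← map_mul]; exact congrArg D.Φ (by decide +kernel)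
  have hsq : ∀ u : Perm (Fin 6), u * u = 1 → D.Φ u * D.Φ u = 1 := fun u h => by rw [← map_mul, h, map_one]
  obtain ⟨a, ha⟩ : ∃ a, a = D.Φ (swap 2 3) := ⟨_, rfl⟩
  obtain ⟨r, hr⟩ : ∃ r, r = D.Φ0 (swap 0 2) := ⟨_, rfl⟩
  obtain ⟨y, hy⟩ : ∃ y, y = D.Φ0 (swap 0 5) := ⟨_, rfl⟩
  have ha2 : a * a = 1 := ha ▸ hsq _ (swap_mul_self _ _)
  have hry : (y * r) ^ 3 = 1 := by
    rw [hy, hr, ← map_mul, ← map_pow, show (swap (0 : Fin 6) 5 * swap 0 2) ^ 3 = 1 by decide +kernel, map_one]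
  have hay : Commute a y := by rw [ha, hy]; exact hc
  rw [ex, ← ha, ← hr, ← hy, show y * (a * r * a) = y * a * r * a from by group, ← hay.eq,
    show a * y * r * a = a * (y * r) * a⁻¹ by rw [inv_eq_of_mul_eq_one_right ha2]; group, conj_pow, hry, mul_one,
    mul_inv_cancel]

/-- The relations of `E₇`. -/
theorem SixE.gen_rel : CoxeterMatrix.E₇.IsLiftable D.gen := by
  have hK := node_rel
  have hM2 := node_two
  have hsq := node_sq
  obtain ⟨m43, m40, m42⟩ := node_four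
  obtain ⟨h41, h45, h46⟩ := node_four'
  obtain ⟨⟨hq2, hq0⟩, h56, h65⟩ := node_mon
  have hd6 : F.φ rt3 * F.φ rt3 = 1 := F.φ_sq (by decide +kernel)
  have hd5 : F.φ (rt3 * tr ev) * F.φ (rt3 * tr ev) = 1 := by rw [← map_mul, hq2, map_one]
  have hy2 : D.Φ0 (swap 0 5) * D.Φ0 (swap 0 5) = 1 := by rw [← map_mul, swap_mul_self, map_one]
  have comm2 : ∀ (i j : Fin 7), i.val < 4 → 5 ≤ j.val → (D.gen i * D.gen j) ^ (CoxeterMatrix.E₇.M i j) = 1 := by
    intro i j hi hj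
    rw [hM2 i j hi hj, D.gen_node i hi]
    have hn : D.Φ (nodeP i) * D.Φ (nodeP i) = 1 := by rw [← map_mul, hsq i hi, map_one]
    have key : ∀ g, Commute (D.Φ (nodeP i)) g → g * g = 1 → (D.Φ (nodeP i) * g) ^ 2 = 1 := fun g hg h => by
      rw [pow_two, hg.symm.mul_mul_mul_comm, hn, h, one_mul]
    fin_cases j <;> simp only at hj <;> first | omega | skip
    · refine key _ ?_ hd5
      show Commute (D.Φ (nodeP i)) (F.φ (rt3 * tr ev))
      rw [map_mul, F.φ_tr]; exact (D.comm_d _).mul_right (D.comm_ev _)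
    · exact key _ (D.comm_d _) hd6
  have four : ∀ j : Fin 7, (D.gen 4 * D.gen j) ^ (CoxeterMatrix.E₇.M 4 j) = 1 := by
    intro j
    fin_cases j
    · show (D.Φ0 (swap 0 5) * F.φ (rot 6)) ^ CoxeterMatrix.E₇.M 4 0 = 1
      rw [m40, (D.Φ0_comm_d _).mul_pow, pow_two, pow_two, hy2, one_mul, F.φ_sq (by decide +kernel)]
    · show (D.Φ0 (swap 0 5) * D.Φ (swap 4 5)) ^ CoxeterMatrix.E₇.M 4 1 = 1
      rw [D.Φ_45, ← D.Φ0_12, ← map_mul, ← map_pow, h41, map_one]
    · show (D.Φ0 (swap 0 5) * D.Φ (swap 1 2)) ^ CoxeterMatrix.E₇.M 4 2 = 1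
      have hc : Commute (D.Φ0 (swap 0 5)) (F.φ (rot 6 * tr u0)) := by
        rw [map_mul, F.φ_tr]; exact (D.Φ0_comm_d _).mul_right (D.Φ0_comm_e _)
      rw [D.Φ_12, m42, hc.mul_pow, pow_two, pow_two, hy2, one_mul, ← map_mul, hq0, map_one]
    · show (D.Φ0 (swap 0 5) * D.Φ (swap 2 5)) ^ CoxeterMatrix.E₇.M 4 3 = 1
      rw [m43, D.braid]
    · show (D.Φ0 (swap 0 5) * D.Φ0 (swap 0 5)) ^ CoxeterMatrix.E₇.M 4 4 = 1
      rw [hy2, one_pow]
    · show (D.Φ0 (swap 0 5) * F.φ (rt3 * tr ev)) ^ CoxeterMatrix.E₇.M 4 5 = 1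
      rw [← D.Φ0_45, ← map_mul, ← map_pow, h45, map_one]
    · show (D.Φ0 (swap 0 5) * F.φ rt3) ^ CoxeterMatrix.E₇.M 4 6 = 1
      rw [← D.Φ0_34, ← map_mul, ← map_pow, h46, map_one]
  have swapped : ∀ i j : Fin 7, (D.gen i * D.gen j) ^ (CoxeterMatrix.E₇.M i j) = 1 →
      (D.gen j * D.gen i) ^ (CoxeterMatrix.E₇.M j i) = 1 := by
    intro i j h
    rw [CoxeterMatrix.E₇.isSymm.apply,
      show D.gen j * D.gen i = (D.gen i)⁻¹ * (D.gen i * D.gen j) * ((D.gen i)⁻¹)⁻¹ by group, conj_pow, h, mul_one,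
      mul_inv_cancel]
  intro i j
  show (D.gen i * D.gen j) ^ CoxeterMatrix.E₇.M i j = 1
  by_cases hi : i.val < 4
  · by_cases hj : j.val < 4
    · rw [D.gen_node i hi, D.gen_node j hj, ← map_mul, ← map_pow, hK i j hi hj, map_one]
    · by_cases hj4 : j.val = 4
      · obtain rfl : j = 4 := Fin.ext hj4
        exact swapped 4 i (four i)
      · exact comm2 i j hi (by omega)
  · by_cases hi4 : i.val = 4
    · obtain rfl : i = 4 := Fin.ext hi4
      exact four j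
    · by_cases hj : j.val < 4
      · exact swapped j i (comm2 j i hj (by omega))
      · by_cases hj4 : j.val = 4
        · obtain rfl : j = 4 := Fin.ext hj4
          exact swapped 4 i (four i)
        · fin_cases i <;> fin_cases j <;> simp at hi hi4 hj hj4
          · show (F.φ (rt3 * tr ev) * F.φ (rt3 * tr ev)) ^ CoxeterMatrix.E₇.M 5 5 = 1
            rw [hd5, one_pow]
          · show (F.φ (rt3 * tr ev) * F.φ rt3) ^ CoxeterMatrix.E₇.M 5 6 = 1
            rw [← map_mul, ← map_pow, h56, map_one]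
          · show (F.φ rt3 * F.φ (rt3 * tr ev)) ^ CoxeterMatrix.E₇.M 6 5 = 1
            rw [← map_mul, ← map_pow, h65, map_one]
          · show (F.φ rt3 * F.φ rt3) ^ CoxeterMatrix.E₇.M 6 6 = 1
            rw [hd6, one_pow]

/-- An embedding of the symplectic group with its named elements. -/
structure SixE.Emb where
  /-- the embedding -/
  Ψ : SpM.S →* G
  inj : Function.Injective Ψ
  gen : ∀ i : Fin 7, Ψ ⟨SpM.T (SpM.gv i), SpM.T_mem _⟩ = D.gen i
  p1 : Ψ ⟨SpM.T 4, SpM.T_mem _⟩ = F.φ (rot 12)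

/-- There is an embedding of the symplectic group. -/
theorem SixE.exists_emb : Nonempty D.Emb := by
  classical
  obtain ⟨-, hcent⟩ := SpM.ker_π
  let cs := CoxeterMatrix.E₇.toCoxeterSystem
  let ι : CoxeterMatrix.E₇.Group →* G := cs.lift ⟨D.gen, D.gen_rel⟩
  have hι : ∀ i, ι (CoxeterMatrix.E₇.simple i) = D.gen i := fun i => cs.lift_apply_simple D.gen_rel i
  have hker : SpM.π.ker ≤ ι.ker := by
    intro c hc
    rw [MonoidHom.mem_ker]
    have hcc : ∀ g ∈ ι.range, Commute (ι c) g := by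
      rintro _ ⟨w, rfl⟩
      exact (hcent c hc w).map ι
    have h6 : Commute (ι c) (F.φ rt3) := hcc _ ⟨_, hι 6⟩
    have h2 : Commute (ι c) (F.j ev) := by
      have := h6.mul_right (hcc _ (⟨_, hι 5⟩ : F.φ (rt3 * tr ev) ∈ ι.range))
      rwa [← map_mul, show rt3 * (rt3 * tr ev) = tr ev by decide +kernel, F.φ_tr] at this
    obtain ⟨σ, hσ⟩ := D.mem _ h2 h6
    have hcσ : ∀ i : Fin 7, ∀ hi : i.val < 4, σ * nodeP i = nodeP i * σ := fun i hi => D.inj (by
      rw [map_mul, map_mul, hσ, ← D.gen_node i hi]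
      exact (hcc _ ⟨_, hι i⟩).eq)
    rw [← hσ, (six_cent σ (hcσ 0 (by decide)) (hcσ 2 (by decide)) (hcσ 3 (by decide))).2 (hcσ 1 (by decide)), map_one]
  let πS : CoxeterMatrix.E₇.Group →* SpM.S :=
    SpM.π.codRestrict SpM.S fun w => (SpM.range_π.le ⟨w, rfl⟩ :)
  have hπS : Function.Surjective πS := fun g => by
    obtain ⟨w, hw⟩ := (SpM.range_π.ge g.2 :)
    exact ⟨w, Subtype.ext hw⟩
  let Ψ : SpM.S →* G := πS.liftOfSurjective hπS ⟨ι, fun c hc => hker (by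
    rw [MonoidHom.mem_ker] at hc ⊢
    exact congrArg Subtype.val hc)⟩
  have hΨ : ∀ w, Ψ (πS w) = ι w := fun w => MonoidHom.liftOfRightInverse_comp_apply _ _ _ _ w
  have hgen : ∀ i : Fin 7, Ψ ⟨SpM.T (SpM.gv i), SpM.T_mem _⟩ = D.gen i := fun i => by
    rw [show (⟨SpM.T (SpM.gv i), SpM.T_mem _⟩ : SpM.S) = πS (CoxeterMatrix.E₇.simple i) from
      Subtype.ext (SpM.π_simple i).symm, hΨ, hι]
  have hinj : Function.Injective Ψ := by
    rw [← MonoidHom.ker_eq_bot_iff]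
    rcases (SpM.simple_S).eq_bot_or_eq_top_of_normal Ψ.ker inferInstance with h | h
    · exact h
    · exfalso
      have h1 : Ψ ⟨SpM.T (SpM.gv 6), SpM.T_mem _⟩ = 1 := MonoidHom.mem_ker.1 (h ▸ Subgroup.mem_top _)
      rw [hgen] at h1
      exact F.φ_ne_one (by decide +kernel) h1
  refine ⟨⟨Ψ, hinj, hgen, ?_⟩⟩
  -- the element of the middle block
  obtain ⟨q, hq⟩ : ∃ q, q = Ψ ⟨SpM.T 4, SpM.T_mem _⟩ := ⟨_, rfl⟩
  have hT : ∀ i : Fin 7, SpM.T 4 * SpM.T (SpM.gv i) = SpM.T (SpM.gv i) * SpM.T 4 → Commute q (D.gen i) := by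
    intro i h
    rw [hq, ← hgen]
    exact (show Commute (⟨SpM.T 4, SpM.T_mem _⟩ : SpM.S) ⟨SpM.T (SpM.gv i), SpM.T_mem _⟩ from Subtype.ext h).map Ψ
  have h6 : Commute q (F.φ rt3) := hT 6 (by decide +kernel)
  have h5 : Commute q (F.φ (rt3 * tr ev)) := hT 5 (by decide +kernel)
  have he : Commute q (F.j ev) := by
    have := h6.mul_right h5
    rwa [← map_mul, show rt3 * (rt3 * tr ev) = tr ev by decide +kernel, F.φ_tr] at this
  obtain ⟨σ, hσ⟩ := D.mem q he h6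
  have hcommσ : ∀ i : Fin 7, ∀ hi : i.val < 4, SpM.T 4 * SpM.T (SpM.gv i) = SpM.T (SpM.gv i) * SpM.T 4 →
      σ * nodeP i = nodeP i * σ := fun i hi h => D.inj (by
    rw [map_mul, map_mul, hσ, ← D.gen_node i hi]; exact (hT i h).eq)
  rcases (six_cent σ (hcommσ 0 (by decide) (by decide +kernel)) (hcommσ 2 (by decide) (by decide +kernel))
    (hcommσ 3 (by decide) (by decide +kernel))).1 with h | h
  · exfalso
    rw [h, map_one, hq, ← map_one Ψ] at hσ
    have := congrArg Subtype.val (hinj hσ)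
    exact absurd this (by decide +kernel)
  · rw [← hq, ← hσ, h, D.p1]

end Frame3

end CfsgPSp43Real
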