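import Cfsg.Agent.Lib.CoprimeGen
import Cfsg.Agent.Lib.ThreeCC.Local
import Cfsg.Agent.S3331

/-!
A group with an element of order three that is self-centralising modulo a central 2-subgroup, acted on by a group of
order nine, is controlled by the centralisers of that group.
-/

set_option autoImplicit false
set_option linter.style.haveILetI false

namespace CfsgPSp43Real

variable {G : Type*} [Group G]

/-- The elements of an elementary group of order nine up to inversion. -/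
theorem nine_cases {e f z : G} (he : e ^ 3 = 1) (hf : f ^ 3 = 1) (hef : Commute e f) {i j : ℕ}
    (hz : z = e ^ i * f ^ j) : z = 1 ∨ ∃ x ∈ ([e, f, e * f, e * e * f] : List G), z = x ∨ z * z = x := by
  have hi : e ^ i = e ^ (i % 3) := pow_eq_pow_mod _ he
  have hj : f ^ j = f ^ (j % 3) := pow_eq_pow_mod _ hf
  rw [hi, hj] at hz
  have he' : e * e * e = 1 := by rw [← pow_three', he]
  have hf' : f * f * f = 1 := by rw [← pow_three', hf]
  have e4 : e * e * e * e = e := by rw [he', one_mul]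
  have f4 : f * f * f * f = f := by rw [hf', one_mul]
  rcases (show i % 3 = 0 ∨ i % 3 = 1 ∨ i % 3 = 2 by omega) with h | h | h <;>
    rcases (show j % 3 = 0 ∨ j % 3 = 1 ∨ j % 3 = 2 by omega) with h' | h' | h' <;>
      rw [h, h'] at hz <;>
      simp only [pow_zero, pow_one, pow_two, one_mul, mul_one] at hz <;> subst hz
  · exact Or.inl rfl
  · exact Or.inr ⟨z, by simp, Or.inl rfl⟩
  · exact Or.inr ⟨f, by simp, Or.inr (by rw [← mul_assoc, f4])⟩
  · exact Or.inr ⟨z, by simp, Or.inl rfl⟩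
  · exact Or.inr ⟨e * f, by simp, Or.inl rfl⟩
  · refine Or.inr ⟨e * e * f, by simp, Or.inr ?_⟩
    rw [(show Commute (f * f) e from hef.symm.mul_left hef.symm).mul_mul_mul_comm, ← mul_assoc (f * f), f4]
  · exact Or.inr ⟨e, by simp, Or.inr (by rw [← mul_assoc, e4])⟩
  · exact Or.inr ⟨e * e * f, by simp, Or.inl rfl⟩
  · refine Or.inr ⟨e * f, by simp, Or.inr ?_⟩
    rw [(show Commute (f * f) (e * e) from (hef.symm.mul_left hef.symm).mul_right
      (hef.symm.mul_left hef.symm)).mul_mul_mul_comm, ← mul_assoc (e * e), e4, ← mul_assoc (f * f), f4]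

/-- A 3'-subgroup normalised by a group of order nine. -/
theorem le_of_nine [Finite G] {e f : G} (he : e ^ 3 = 1) (hf : f ^ 3 = 1) (hef : Commute e f) (he1 : e ≠ 1)
    (hfe : f ∉ Subgroup.zpowers e) (K M : Subgroup G) (hK : (Nat.card K).Coprime 3)
    (hne : ∀ k ∈ K, e * k * e⁻¹ ∈ K) (hnf : ∀ k ∈ K, f * k * f⁻¹ ∈ K)
    (hM : ∀ x ∈ ([e, f, e * f, e * e * f] : List G), ∀ k ∈ K, Commute k x → k ∈ M) : K ≤ M := by
  classical
  let A : Subgroup G :=
    { carrier := {g | ∃ i j : ℕ, g = e ^ i * f ^ j}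
      mul_mem' := by
        rintro _ _ ⟨i, j, rfl⟩ ⟨k, l, rfl⟩
        exact ⟨i + k, j + l, by rw [pow_add, pow_add, (hef.symm.pow_pow j k).mul_mul_mul_comm]⟩
      one_mem' := ⟨0, 0, by simp⟩
      inv_mem' := by
        rintro _ ⟨i, j, rfl⟩
        refine ⟨2 * i, 2 * j, inv_eq_of_mul_eq_one_right ?_⟩
        rw [(hef.symm.pow_pow j (2 * i)).mul_mul_mul_comm, ← pow_add, ← pow_add,
          show i + 2 * i = 3 * i by omega, show j + 2 * j = 3 * j by omega, pow_mul, pow_mul, he, hf, one_pow,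
          one_pow, one_mul] }
  have hAmem : ∀ g, g ∈ A ↔ ∃ i j : ℕ, g = e ^ i * f ^ j := fun g => Iff.rfl
  have hc3 : ∀ g ∈ A, g ^ 3 = 1 := by
    rintro _ ⟨i, j, rfl⟩
    rw [(hef.pow_pow i j).mul_pow, ← pow_mul, ← pow_mul, mul_comm i, mul_comm j, pow_mul, pow_mul, he, hf,
      one_pow, one_pow, one_mul]
  haveI : IsMulCommutative A := ⟨⟨fun p q => Subtype.ext (by
    obtain ⟨i, j, hp⟩ := (hAmem _).1 p.2
    obtain ⟨k, l, hq⟩ := (hAmem _).1 q.2
    rw [Subgroup.coe_mul, Subgroup.coe_mul, hp, hq]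
    exact ((((Commute.refl e).pow_pow i k).mul_right (hef.pow_pow i l)).mul_left
      ((hef.symm.pow_pow j k).mul_right ((Commute.refl f).pow_pow j l))).eq)⟩⟩
  have hcyc : ¬ IsCyclic A := by
    intro h
    obtain ⟨⟨c, hc⟩, hgen⟩ := h.exists_generator
    have hz : ∀ u ∈ A, u ∈ Subgroup.zpowers c := fun u hu => by
      obtain ⟨n, hn⟩ := Subgroup.mem_zpowers_iff.1 (hgen ⟨u, hu⟩)
      exact Subgroup.mem_zpowers_iff.2 ⟨n, congrArg Subtype.val hn⟩
    have heA : e ∈ A := ⟨1, 0, by simp⟩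
    have hle : Subgroup.zpowers e ≤ Subgroup.zpowers c := Subgroup.zpowers_le.2 (hz e heA)
    have hc1 : c ≠ 1 := fun e1 => by
      have := hz e heA
      rw [e1, Subgroup.zpowers_one_eq_bot, Subgroup.mem_bot] at this
      exact he1 this
    haveI : Fact (Nat.Prime 3) := ⟨Nat.prime_three⟩
    have heq : Subgroup.zpowers e = Subgroup.zpowers c := Subgroup.eq_of_le_of_card_ge hle (by
      rw [Nat.card_zpowers, Nat.card_zpowers, orderOf_eq_prime (hc3 c hc) hc1, orderOf_eq_prime he he1])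
    exact hfe (heq ▸ hz f ⟨0, 1, by simp⟩)
  have hA3 : IsPGroup 3 A := fun g => ⟨1, Subtype.ext (by rw [pow_one]; exact hc3 _ g.2)⟩
  have hcop : (Nat.card A).Coprime (Nat.card K) := by
    haveI : Fact (Nat.Prime 3) := ⟨Nat.prime_three⟩
    obtain ⟨i, hi⟩ := hA3.exists_card_eq
    rw [hi]; exact Nat.Coprime.pow_left i hK.symm
  have hnorm : A ≤ Subgroup.normalizer (K : Set G) := by
    have hpow : ∀ g : G, g ^ 3 = 1 → (∀ k ∈ K, g * k * g⁻¹ ∈ K) → g ∈ Subgroup.normalizer (K : Set G) := by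
      intro g hg h
      refine Subgroup.mem_normalizer_iff.2 fun k => ⟨h k, fun hk => ?_⟩
      have := h _ (h _ hk)
      rwa [show g * (g * (g * k * g⁻¹) * g⁻¹) * g⁻¹ = g ^ 3 * k * (g ^ 3)⁻¹ by rw [pow_three']; group, hg, one_mul, inv_one,
        mul_one] at this
    rintro _ ⟨i, j, rfl⟩
    exact mul_mem (pow_mem (hpow e he hne) i) (pow_mem (hpow f hf hnf) j)
  rw [← CfsgLib.coprime_generated_by_centralizers hcyc hnorm hcop]
  refine iSup₂_le fun c hc k hk => ?_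
  obtain ⟨⟨i, j, hij⟩, hc1⟩ := hc
  have hkc : Commute k c := Subgroup.mem_centralizer_singleton_iff.1 hk.2
  rcases nine_cases he hf hef hij with h | ⟨x, hx, h | h⟩
  · exact absurd h hc1
  · exact hM x hx k hk.1 (h ▸ hkc)
  · exact hM x hx k hk.1 (h ▸ hkc.mul_right hkc)

/-- A group with an element of order three, self-centralising modulo a central 2-subgroup. -/
theorem cent_le_of_self_three [Finite G] (W D M : Subgroup G) {e f : G} (hWD : W ≤ D) (hW2 : IsPGroup 2 W)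
    (hWc : ∀ w ∈ W, ∀ g ∈ D, Commute g w) (heD : e ∈ D) (he : e ^ 3 = 1) (he1 : e ≠ 1) (hf : f ^ 3 = 1)
    (hef : Commute e f) (hfe : f ∉ Subgroup.zpowers e) (hfD : ∀ g ∈ D, f * g * f⁻¹ ∈ D)
    (hfW : ∀ w ∈ W, f * w * f⁻¹ ∈ W)
    (hself : ∀ g ∈ D, Commute g e → ∃ i : ℕ, ∃ w ∈ W, g = e ^ i * w)
    (hM : ∀ x ∈ ([e, f, e * f, e * e * f] : List G), ∀ g ∈ D, Commute g x → g ∈ M)
    (h57 : ∀ x ∈ ([e, f, e * f, e * e * f] : List G), ∀ g ∈ D, Commute g x → ¬ 5 ∣ orderOf g ∧ ¬ 7 ∣ orderOf g)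
    (hN : ∀ g ∈ D, g * e * g⁻¹ = e ∨ g * e * g⁻¹ = e⁻¹ → g ∈ M) : D ≤ M := by
  classical
  haveI : Fact (Nat.Prime 3) := ⟨Nat.prime_three⟩
  haveI : Fact (Nat.Prime 2) := ⟨Nat.prime_two⟩
  obtain ⟨a, ha⟩ := hW2.exists_card_eq
  have hwpow : ∀ w ∈ W, w ^ Nat.card W = 1 := fun w hw =>
    congrArg Subtype.val (pow_card_eq_one' (x := (⟨w, hw⟩ : W)))
  have hord3 : orderOf e = 3 := orderOf_eq_prime he he1
  have htriv : ∀ w ∈ W, w ^ 3 = 1 → w = 1 := fun w hw h => orderOf_eq_one_iff.1 (Nat.eq_one_of_dvd_coprimes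
    (Nat.Coprime.pow_left a (by norm_num : Nat.Coprime 2 3)) (ha ▸ orderOf_dvd_of_pow_eq_one (hwpow w hw))
    (orderOf_dvd_of_pow_eq_one h))
  have heW : e ∉ W := fun h => he1 (htriv e h he)
  haveI hWn : (W.subgroupOf D).Normal := ⟨fun w hw g => by
    show (g : G) * w * (g : G)⁻¹ ∈ W
    rw [(hWc w hw g g.2).eq, mul_inv_cancel_right]
    exact hw⟩
  let π := QuotientGroup.mk' (W.subgroupOf D)
  obtain ⟨ed, hed⟩ : ∃ ed : D, (ed : G) = e := ⟨⟨e, heD⟩, rfl⟩
  have he3' : π ed ^ 3 = 1 := by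
    rw [← map_pow, show ed ^ 3 = 1 from Subtype.ext (by rw [Subgroup.coe_pow, hed, he]; rfl), map_one]
  have heb : orderOf (π ed) = 3 := orderOf_eq_prime he3' fun h => heW (hed ▸ (QuotientGroup.eq_one_iff (N := W.subgroupOf D) ed).1 h)
  have hXc : Subgroup.centralizer ((Subgroup.zpowers (π ed) : Subgroup _) : Set (D ⧸ W.subgroupOf D)) =
      Subgroup.zpowers (π ed) := by
    refine le_antisymm (fun q hq => ?_) (Subgroup.le_centralizer _)
    obtain ⟨g, rfl⟩ := QuotientGroup.mk'_surjective (W.subgroupOf D) q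
    have hc : π ed * π g = π g * π ed := Subgroup.mem_centralizer_iff.1 hq _ (Subgroup.mem_zpowers _)
    obtain ⟨w, hw⟩ : ∃ w, w = e⁻¹ * ((g : G) * e * (g : G)⁻¹) := ⟨_, rfl⟩
    have hwW : w ∈ W := by
      have h : π (ed⁻¹ * (g * ed * g⁻¹)) = 1 := by
        rw [map_mul, map_mul, map_mul, map_inv, map_inv, ← hc, mul_inv_cancel_right, inv_mul_cancel]
      have h' : ((ed⁻¹ * (g * ed * g⁻¹) : D) : G) ∈ W := (QuotientGroup.eq_one_iff (N := W.subgroupOf D) (ed⁻¹ * (g * ed * g⁻¹))).1 h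
      simpa [hed, ← hw] using h'
    have hge : (g : G) * e * (g : G)⁻¹ = e * w := by rw [hw, mul_inv_cancel_left]
    have hw1 : w = 1 := htriv w hwW (by
      have := congrArg (fun u => u ^ 3) hge
      simp only [conj_pow, (hWc w hwW e heD).mul_pow, he, one_mul, mul_one, mul_inv_cancel] at this
      exact this.symm)
    rw [hw1, mul_one, mul_inv_eq_iff_eq_mul] at hge
    obtain ⟨i, u, hu, hgu⟩ := hself g g.2 hge
    refine Subgroup.mem_zpowers_iff.2 ⟨i, ?_⟩
    rw [zpow_natCast, show g = ed ^ i * ⟨u, hWD hu⟩ from Subtype.ext (by simp [hgu, hed]), map_mul, map_pow,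
      show π ⟨u, hWD hu⟩ = 1 from (QuotientGroup.eq_one_iff _).2 hu, mul_one]
  have hcardD : Nat.card D = Nat.card (D ⧸ W.subgroupOf D) * Nat.card W := by
    rw [← Nat.card_congr (Subgroup.subgroupOfEquivOfLe hWD).toEquiv]
    exact Subgroup.card_eq_card_quotient_mul_card_subgroup _
  -- no element of order five or seven
  have hkill : ∀ p : ℕ, p.Prime → p = 5 ∨ p = 7 → p ∣ Nat.card (D ⧸ W.subgroupOf D) →
      ¬ p ^ 2 ∣ Nat.card (D ⧸ W.subgroupOf D) → ¬ 9 ∣ Nat.card (D ⧸ W.subgroupOf D) →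
      3 ∣ Nat.card (D ⧸ W.subgroupOf D) →
      (∀ n : ℕ, n ∣ Nat.card (D ⧸ W.subgroupOf D) → n % p = 1 → ¬ p ∣ n → (¬ 3 ∣ n) ∨ (¬ 3 ∣ p - 1 ∧ ¬ 9 ∣ n)) →
      False := by
    intro p hpp hp57 hpX hp2 h9 h3 hn
    have := Fact.mk hpp
    have hfD' : f ∉ D := by
      intro h
      obtain ⟨i, w, hw, e'⟩ := hself f h hef.symm
      have hw3 : w ^ 3 = 1 := by
        have hc : Commute (e ^ i) w := hWc w hw _ (pow_mem heD i)
        have := congrArg (fun u => u ^ 3) e'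
        simp only [hf, hc.mul_pow, ← pow_mul, mul_comm i 3] at this
        rw [pow_mul, he, one_pow, one_mul] at this
        exact this.symm
      rw [htriv w hw hw3, mul_one] at e'
      exact hfe (e' ▸ Subgroup.npow_mem_zpowers e i)
    obtain ⟨Y, hY⟩ : ∃ Y, Y = D ⊔ Subgroup.zpowers f := ⟨_, rfl⟩
    have hDY : D ≤ Y := hY ▸ le_sup_left
    have hfY : f ∈ Y := hY ▸ Subgroup.mem_sup_right (Subgroup.mem_zpowers f)
    have hnorm : ∀ (S : Subgroup G), (∀ g ∈ D, ∀ s ∈ S, g * s * g⁻¹ ∈ S) → (∀ s ∈ S, f * s * f⁻¹ ∈ S) →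
        Y ≤ Subgroup.normalizer (S : Set G) := by
      intro S h1 h2
      rw [hY]
      refine sup_le (fun g hg => Subgroup.mem_normalizer_iff.2 fun s => ⟨h1 g hg s, fun hs => ?_⟩)
        (Subgroup.zpowers_le.2 (Subgroup.mem_normalizer_iff.2 fun s => ⟨h2 s, fun hs => ?_⟩))
      · have := h1 g⁻¹ (inv_mem hg) _ hs
        rwa [inv_inv, ← mul_assoc, ← mul_assoc, inv_mul_cancel, one_mul, inv_mul_cancel_right] at this
      · have := h2 _ (h2 _ hs)
        rwa [show f * (f * (f * s * f⁻¹) * f⁻¹) * f⁻¹ = f ^ 3 * s * (f ^ 3)⁻¹ by rw [pow_three']; group, hf, one_mul, inv_one,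
          mul_one] at this
    haveI hDn : (D.subgroupOf Y).Normal := (Subgroup.normal_subgroupOf_iff_le_normalizer hDY).2
      (hnorm D (fun g hg s hs => mul_mem (mul_mem hg hs) (inv_mem hg)) hfD)
    haveI hWnY : (W.subgroupOf Y).Normal := (Subgroup.normal_subgroupOf_iff_le_normalizer (hWD.trans hDY)).2
      (hnorm W (fun g hg s hs => by rw [(hWc s hs g hg).eq, mul_inv_cancel_right]; exact hs) hfW)
    let μ := QuotientGroup.mk' (W.subgroupOf Y)
    let δ := QuotientGroup.mk' (D.subgroupOf Y)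
    have hY3 : ∀ y : Y, y ^ 3 ∈ D.subgroupOf Y ∧ δ y ∈ Subgroup.zpowers (δ ⟨f, hfY⟩) := by
      have hcov : ∀ y : Y, δ y ∈ Subgroup.zpowers (δ ⟨f, hfY⟩) := by
        intro y
        have hle : Y ≤ ((Subgroup.zpowers (δ ⟨f, hfY⟩)).comap δ).map Y.subtype := by
          conv_lhs => rw [hY]
          refine sup_le (fun g hg => ⟨⟨g, hDY hg⟩, ?_, rfl⟩) (Subgroup.zpowers_le.2
            ⟨⟨f, hfY⟩, Subgroup.mem_zpowers _, rfl⟩)
          show δ ⟨g, hDY hg⟩ ∈ Subgroup.zpowers (δ ⟨f, hfY⟩)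
          rw [show δ ⟨g, hDY hg⟩ = 1 from (QuotientGroup.eq_one_iff _).2 hg]
          exact one_mem _
        obtain ⟨y', hy', e'⟩ := hle y.2
        exact Subtype.ext (a1 := y') (a2 := y) e' ▸ hy'
      intro y
      refine ⟨(QuotientGroup.eq_one_iff _).1 ?_, hcov y⟩
      obtain ⟨n, hn⟩ := Subgroup.mem_zpowers_iff.1 (hcov y)
      have e3 : δ ⟨f, hfY⟩ ^ (3 : ℤ) = 1 := by
        rw [show (3 : ℤ) = ((3 : ℕ) : ℤ) from rfl, zpow_natCast, ← map_pow,
          show (⟨f, hfY⟩ : Y) ^ 3 = 1 from Subtype.ext hf, map_one]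
      show δ (y ^ 3) = 1
      rw [map_pow, ← hn, ← zpow_natCast, ← zpow_mul, mul_comm, zpow_mul]
      simp [e3]
    have hδf : orderOf (δ ⟨f, hfY⟩) = 3 := orderOf_eq_prime
      (by rw [← map_pow, show (⟨f, hfY⟩ : Y) ^ 3 = 1 from Subtype.ext hf, map_one])
      fun h => hfD' ((QuotientGroup.eq_one_iff (N := D.subgroupOf Y) _).1 h)
    have hcY : Nat.card (Y ⧸ W.subgroupOf Y) = 3 * Nat.card (D ⧸ W.subgroupOf D) := by
      have h1 := Subgroup.card_eq_card_quotient_mul_card_subgroup (D.subgroupOf Y)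
      have h2 := Subgroup.card_eq_card_quotient_mul_card_subgroup (W.subgroupOf Y)
      rw [Nat.card_congr (Subgroup.subgroupOfEquivOfLe hDY).toEquiv, hcardD] at h1
      rw [Nat.card_congr (Subgroup.subgroupOfEquivOfLe (hWD.trans hDY)).toEquiv] at h2
      have htop : Subgroup.zpowers (δ ⟨f, hfY⟩) = ⊤ := (Subgroup.eq_top_iff' _).2 fun q => by
        obtain ⟨y, rfl⟩ := QuotientGroup.mk'_surjective (D.subgroupOf Y) q
        exact (hY3 y).2
      rw [← Subgroup.card_top (G := Y ⧸ D.subgroupOf Y), ← htop, Nat.card_zpowers, hδf] at h1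
      have hW0 : 0 < Nat.card W := Nat.card_pos
      rw [h1, ← mul_assoc] at h2
      exact (Nat.eq_of_mul_eq_mul_right hW0 h2).symm
    obtain ⟨X', hX'⟩ : ∃ X', X' = (D.subgroupOf Y).map μ := ⟨_, rfl⟩
    haveI : X'.Normal := hX' ▸ hDn.map _ (QuotientGroup.mk'_surjective _)
    have hcX : Nat.card X' = Nat.card (D ⧸ W.subgroupOf D) := by
      let φ : D →* Y ⧸ W.subgroupOf Y := μ.comp (Subgroup.inclusion hDY)
      have hr : φ.range = X' := by
        rw [hX', MonoidHom.range_comp, Subgroup.inclusion_range]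
      have hk : φ.ker = W.subgroupOf D := by
        ext g; exact QuotientGroup.eq_one_iff _
      rw [← hr, ← Subgroup.index_ker, hk]
      rfl
    obtain ⟨eY, heY⟩ : ∃ y : Y, (y : G) = e := ⟨⟨e, hDY heD⟩, rfl⟩
    obtain ⟨fY, hfY'⟩ : ∃ y : Y, (y : G) = f := ⟨⟨f, hfY⟩, rfl⟩
    obtain ⟨r, t, hr, ht, hrt⟩ := CfsgLib.ThreeCC.exists_three_centralizing X'
      (by rw [hcY, show (9 : ℕ) = 3 * 3 from rfl]; exact mul_dvd_mul_left 3 h3) (p := p)
      (by rcases hp57 with rfl | rfl <;> norm_num) (hcX ▸ hpX) (hcX ▸ hp2) (hcX ▸ hn)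
    -- the elementary group of order nine is a Sylow subgroup
    obtain ⟨T, hT⟩ : ∃ T, T = Subgroup.closure ({μ eY, μ fY} : Set (Y ⧸ W.subgroupOf Y)) := ⟨_, rfl⟩
    have heYfY : Commute (μ eY) (μ fY) :=
      (show Commute eY fY from Subtype.ext (by simp [heY, hfY', hef.eq])).map μ
    have he3Y : μ eY ^ 3 = 1 := by
      rw [← map_pow, show eY ^ 3 = 1 from Subtype.ext (by rw [Subgroup.coe_pow, heY, he]; rfl), map_one]
    have hf3Y : μ fY ^ 3 = 1 := by
      rw [← map_pow, show fY ^ 3 = 1 from Subtype.ext (by rw [Subgroup.coe_pow, hfY', hf]; rfl), map_one]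
    have hTel : ∀ u ∈ T, ∃ i j : ℕ, u = μ eY ^ i * μ fY ^ j := by
      intro u hu
      rw [hT] at hu
      induction hu using Subgroup.closure_induction with
      | mem x hx =>
        rcases hx with rfl | rfl
        · exact ⟨1, 0, by simp⟩
        · exact ⟨0, 1, by simp⟩
      | one => exact ⟨0, 0, by simp⟩
      | mul x y _ _ hx hy =>
        obtain ⟨i, j, rfl⟩ := hx
        obtain ⟨k, l, rfl⟩ := hy
        exact ⟨i + k, j + l, by rw [pow_add, pow_add, (heYfY.symm.pow_pow j k).mul_mul_mul_comm]⟩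
      | inv x _ hx =>
        obtain ⟨i, j, rfl⟩ := hx
        refine ⟨2 * i, 2 * j, inv_eq_of_mul_eq_one_right ?_⟩
        rw [(heYfY.symm.pow_pow j (2 * i)).mul_mul_mul_comm, ← pow_add, ← pow_add,
          show i + 2 * i = 3 * i by omega, show j + 2 * j = 3 * j by omega, pow_mul, pow_mul, he3Y, hf3Y,
          one_pow, one_pow, one_mul]
    have hT3 : IsPGroup 3 T := fun u => ⟨1, Subtype.ext (by
      obtain ⟨i, j, hu⟩ := hTel u u.2
      rw [pow_one, Subgroup.coe_pow, hu, (heYfY.pow_pow i j).mul_pow, ← pow_mul, ← pow_mul, mul_comm i, mul_comm j,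
        pow_mul, pow_mul, he3Y, hf3Y, one_pow, one_pow, one_mul]
      rfl)⟩
    obtain ⟨P, hP⟩ := hT3.exists_le_sylow
    have hPT : (P : Subgroup _) = T := by
      refine (Subgroup.eq_of_le_of_card_ge hP ?_).symm
      have h27 : ¬ 3 ^ 3 ∣ Nat.card (Y ⧸ W.subgroupOf Y) := by
        rw [hcY, show (3 : ℕ) ^ 3 = 3 * 9 from rfl]
        exact fun h => h9 (Nat.dvd_of_mul_dvd_mul_left (by norm_num) h)
      obtain ⟨i, hi⟩ := P.2.exists_card_eq
      have hi2 : i ≤ 2 := by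
        by_contra h
        exact h27 ((pow_dvd_pow 3 (by omega)).trans (hi ▸ Subgroup.card_subgroup_dvd_card _))
      obtain ⟨k, hk⟩ := hT3.exists_card_eq
      rw [hi, hk]
      refine Nat.pow_le_pow_right (by norm_num) (hi2.trans ?_)
      by_contra hlt
      -- otherwise the two generators give the same cyclic group
      have hle : Subgroup.zpowers (μ eY) ≤ T := Subgroup.zpowers_le.2 (hT ▸ Subgroup.subset_closure (Or.inl rfl))
      have he1Y : μ eY ≠ 1 := fun h => heW (heY ▸ (QuotientGroup.eq_one_iff (N := W.subgroupOf Y) eY).1 h)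
      have heq : Subgroup.zpowers (μ eY) = T := Subgroup.eq_of_le_of_card_ge hle (by
        rw [hk, Nat.card_zpowers, orderOf_eq_prime he3Y he1Y]
        exact le_trans (Nat.pow_le_pow_right (by norm_num) (show k ≤ 1 by omega)) (by norm_num))
      obtain ⟨n, hn'⟩ := Subgroup.mem_zpowers_iff.1
        (heq ▸ (hT ▸ Subgroup.subset_closure (Or.inr rfl) : μ fY ∈ T) : μ fY ∈ Subgroup.zpowers (μ eY))
      refine hfD' ?_
      have h1 : μ (eY ^ (-n) * fY) = 1 := by rw [map_mul, map_zpow, zpow_neg, hn', inv_mul_cancel]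
      have h2 : ((eY ^ (-n) * fY : Y) : G) ∈ D := hWD ((QuotientGroup.eq_one_iff (N := W.subgroupOf Y) (eY ^ (-n) * fY)).1 h1)
      rw [Subgroup.coe_mul, Subgroup.coe_zpow, heY, hfY'] at h2
      have := mul_mem (zpow_mem heD n) h2
      rwa [← mul_assoc, ← zpow_add, add_neg_cancel, zpow_zero, one_mul] at this
    obtain ⟨Q, hQ⟩ := (IsPGroup.of_card (n := 1) (show Nat.card (Subgroup.zpowers t) = 3 ^ 1 by
      rw [Nat.card_zpowers, ht, pow_one])).exists_le_sylow (p := 3)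
    obtain ⟨m, hm⟩ := MulAction.exists_smul_eq (Y ⧸ W.subgroupOf Y) Q P
    have htT : m * t * m⁻¹ ∈ T := by
      rw [← hPT, ← hm, Sylow.coe_subgroup_smul, Subgroup.mem_pointwise_smul_iff_inv_smul_mem]
      simpa [MulAut.smul_def, mul_assoc] using hQ (Subgroup.mem_zpowers t)
    obtain ⟨i, j, hij⟩ := hTel _ htT
    obtain ⟨y, hy⟩ := QuotientGroup.mk'_surjective (W.subgroupOf Y) (m * r * m⁻¹)
    have hy' : μ y = m * r * m⁻¹ := hy
    have hrp : orderOf (m * r * m⁻¹) = p := by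
      rw [show m * r * m⁻¹ = MulAut.conj m r from rfl, MulEquiv.orderOf_eq, hr]
    obtain ⟨g, hg⟩ : ∃ g : D, (g : G) = (y : G) ^ 3 := ⟨⟨_, (hY3 y).1⟩, rfl⟩
    obtain ⟨x, hx, hxc⟩ : ∃ x ∈ ([e, f, e * f, e * e * f] : List G), ∃ z : Y, (z : G) = x ∧
        Commute (μ z) (m * r * m⁻¹) := by
      have hc : Commute (μ eY ^ i * μ fY ^ j) (m * r * m⁻¹) := hij ▸ (show Commute t r from hrt).conj m
      have hmem : ∀ x ∈ ([e, f, e * f, e * e * f] : List G), x ∈ Y := by
        intro x hx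
        simp only [List.mem_cons, List.not_mem_nil, or_false] at hx
        rcases hx with rfl | rfl | rfl | rfl
        exacts [hDY heD, hfY, mul_mem (hDY heD) hfY, mul_mem (mul_mem (hDY heD) (hDY heD)) hfY]
      rcases nine_cases (z := (((eY ^ i * fY ^ j : Y)) : G)) he hf hef (i := i) (j := j) (by simp [heY, hfY'])
        with h | ⟨x, hx, h | h⟩
      · exfalso
        rw [← map_pow, ← map_pow, ← map_mul, show eY ^ i * fY ^ j = 1 from Subtype.ext h, map_one] at hij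
        rw [conj_eq_one_iff] at hij
        rw [hij, orderOf_one] at ht
        norm_num at ht
      · exact ⟨x, hx, eY ^ i * fY ^ j, h, by rw [map_mul, map_pow, map_pow]; exact hc⟩
      · exact ⟨x, hx, ⟨x, hmem x hx⟩, rfl, by
          rw [show (⟨x, hmem x hx⟩ : Y) = (eY ^ i * fY ^ j) * (eY ^ i * fY ^ j) from Subtype.ext h.symm, map_mul,
            map_mul, map_pow, map_pow]
          exact hc.mul_left hc⟩
    obtain ⟨z, hz, hzc⟩ := hxc
    -- lift the commutation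
    obtain ⟨w, hwW, hzg⟩ : ∃ w ∈ W, x * (g : G) * x⁻¹ = (g : G) * w := by
      refine ⟨((y ^ 3)⁻¹ * (z * y ^ 3 * z⁻¹) : Y), (QuotientGroup.eq_one_iff
        (N := W.subgroupOf Y) ((y ^ 3)⁻¹ * (z * y ^ 3 * z⁻¹))).1 ?_, by simp [hg, hz, mul_assoc]⟩
      show μ _ = 1
      rw [map_mul, map_mul, map_mul, map_inv, map_inv, map_pow, hy', (hzc.pow_right 3).eq, mul_inv_cancel_right,
        inv_mul_cancel]
    have hgx : Commute ((g : G) ^ Nat.card W) x := by
      refine (mul_inv_eq_iff_eq_mul.1 ?_ : x * (g : G) ^ Nat.card W = (g : G) ^ Nat.card W * x).symm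
      rw [← conj_pow, hzg, (hWc w hwW g g.2).mul_pow, hwpow w hwW, mul_one]
    obtain ⟨h5, h7⟩ := h57 x hx _ (pow_mem g.2 _) hgx
    have hdvd : p ∣ orderOf ((g : G) ^ Nat.card W) := by
      have h1 : μ ((y ^ 3) ^ Nat.card W) = ((m * r * m⁻¹) ^ 3) ^ Nat.card W := by rw [map_pow, map_pow, hy']
      have h2 : orderOf (((m * r * m⁻¹) ^ 3) ^ Nat.card W) = p := by
        rw [← pow_mul, Nat.Coprime.orderOf_pow]
        · exact hrp
        · rw [hrp, ha]
          refine Nat.Coprime.mul_right ?_ (Nat.Coprime.pow_right a ?_) <;> rcases hp57 with rfl | rfl <;> norm_num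
      rw [show (g : G) ^ Nat.card W = (((y ^ 3) ^ Nat.card W : Y) : G) by simp [hg], Subgroup.orderOf_coe, ← h2,
        ← h1]
      exact orderOf_map_dvd μ _
    rcases hp57 with rfl | rfl
    · exact h5 hdvd
    · exact h7 hdvd
  rcases Cfsg.Agent.S3331.result (Subgroup.zpowers (π ed)) (by rw [Nat.card_zpowers, heb]) hXc with
    ⟨N, hNn, -, hN3, hcase⟩ | ⟨N, hNn, -, hN2, ⟨φ⟩⟩ | ⟨⟨φ⟩⟩
  rotate_left
  · exfalso
    obtain ⟨k, hk⟩ := (show IsPGroup 2 N from fun n => ⟨1, by rw [pow_one]; exact Subtype.ext (hN2 n n.2)⟩).exists_card_eq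
    have hc : Nat.card (D ⧸ W.subgroupOf D) = 2 ^ k * 60 := by
      rw [Subgroup.card_eq_card_quotient_mul_card_subgroup N, hk, Nat.card_congr φ.toEquiv,
        nat_card_alternatingGroup, Nat.card_fin, mul_comm]
      rfl
    have h9 : ¬ 9 ∣ 2 ^ k * 60 := fun h => by
      have := (Nat.Coprime.pow 2 k (by norm_num : Nat.Coprime 3 2)).dvd_of_dvd_mul_left (show 3 ^ 2 ∣ 2 ^ k * 60 from h)
      norm_num at this
    refine hkill 5 (by norm_num) (Or.inl rfl) (hc ▸ Dvd.dvd.mul_left (by norm_num) _) (fun h => ?_) (hc ▸ h9)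
      (hc ▸ Dvd.dvd.mul_left (by norm_num) _) fun n hn _ _ => Or.inr ⟨by norm_num, fun h => h9 (hc ▸ h.trans hn)⟩
    rw [hc] at h
    have := (Nat.Coprime.pow 2 k (by norm_num : Nat.Coprime 5 2)).dvd_of_dvd_mul_left h
    norm_num at this
  · exfalso
    have hc : Nat.card (D ⧸ W.subgroupOf D) = 168 := by
      rw [Nat.card_congr φ.toEquiv, CfsgLib.ThreeCC.card_psl_two_seven]
    refine hkill 7 (by norm_num) (Or.inr rfl) (by rw [hc]; norm_num) (by rw [hc]; norm_num) (by rw [hc]; norm_num)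
      (by rw [hc]; norm_num) fun n hn hn1 _ => ?_
    rw [hc] at hn
    have := Nat.le_of_dvd (by norm_num) hn
    interval_cases n <;> revert hn hn1 <;> decide
  -- the nilpotent case
  haveI := hNn
  obtain ⟨P₀, hP₀⟩ : ∃ P₀, P₀ = N.comap π := ⟨_, rfl⟩
  haveI : P₀.Normal := hP₀ ▸ hNn.comap _
  have hidx : P₀.index = N.index := hP₀ ▸ Subgroup.index_comap_of_surjective _ (QuotientGroup.mk'_surjective _)
  have hP₀c : Nat.card P₀ = Nat.card N * Nat.card W := by
    have h1 := P₀.card_mul_index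
    have h2 := N.card_mul_index
    rw [hidx, hcardD, ← h2, mul_right_comm] at h1
    exact Nat.eq_of_mul_eq_mul_right (Nat.pos_of_ne_zero Subgroup.index_ne_zero_of_finite) h1
  have hP₀3 : (Nat.card P₀).Coprime 3 := by
    rw [hP₀c, ha]; exact hN3.mul_left (Nat.Coprime.pow_left a (by norm_num))
  obtain ⟨R, hR⟩ : ∃ R, R = (Cfsg.pPrimeCore 3 D).map D.subtype := ⟨_, rfl⟩
  haveI hcore : (Cfsg.pPrimeCore 3 D).Normal := Subgroup.sSup_normal _ (fun _ h => h.1)
  have hRM : R ≤ M := by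
    refine le_of_nine he hf hef he1 hfe R M ?_ ?_ ?_ fun x hx k hk => hM x hx k (hR ▸ hk |>.elim fun _ h => h.2 ▸ Subtype.prop _)
    · rw [hR, Subgroup.card_map_of_injective D.subtype_injective]
      exact CfsgLib.card_pPrimeCore_coprime 3
    · rw [hR]
      rintro _ ⟨k, hk, rfl⟩
      exact ⟨⟨e, heD⟩ * k * ⟨e, heD⟩⁻¹, hcore.conj_mem _ hk _, rfl⟩
    · intro k hk
      have hRD : R ≤ D := hR ▸ Subgroup.map_subtype_le _
      have hle : R.map (MulAut.conj f).toMonoidHom ≤ D := by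
        rintro _ ⟨u, hu, rfl⟩
        exact hfD u (hRD hu)
      obtain ⟨K, hK⟩ : ∃ K, K = (R.map (MulAut.conj f).toMonoidHom).subgroupOf D := ⟨_, rfl⟩
      haveI : K.Normal := by
        refine ⟨fun u hu d => ?_⟩
        rw [hK, Subgroup.mem_subgroupOf] at hu ⊢
        obtain ⟨v, hv, e'⟩ := hu
        have hd : f⁻¹ * (d : G) * f ∈ D := by
          have := hfD _ (hfD _ d.2)
          rwa [show f * (f * (d : G) * f⁻¹) * f⁻¹ = (f * f) * d * (f * f)⁻¹ by group,
            show f * f = f⁻¹ by rw [← mul_eq_one_iff_eq_inv]; rw [← pow_three', hf], inv_inv] at this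
        rw [hR] at hv
        obtain ⟨v', hv', rfl⟩ := hv
        refine ⟨((⟨_, hd⟩ * v' * ⟨_, hd⟩⁻¹ : D) : G), hR ▸ ⟨_, hcore.conj_mem _ hv' _, rfl⟩, ?_⟩
        simp only [Subgroup.coe_mul, Subgroup.coe_inv]
        rw [← e']
        simp only [MulEquiv.coe_toMonoidHom, MulAut.conj_apply, Subgroup.coe_mul, Subgroup.coe_inv,
          Subgroup.coe_subtype]
        group
      have hK3 : (Nat.card K).Coprime 3 := by
        rw [hK, Nat.card_congr (Subgroup.subgroupOfEquivOfLe hle).toEquiv,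
          Subgroup.card_map_of_injective (f := (MulAut.conj f).toMonoidHom) (MulAut.conj f).injective, hR,
          Subgroup.card_map_of_injective D.subtype_injective]
        exact CfsgLib.card_pPrimeCore_coprime 3
      rw [hR]
      have hkm : f * k * f⁻¹ ∈ R.map (MulAut.conj f).toMonoidHom := ⟨k, hk, rfl⟩
      exact ⟨⟨_, hle hkm⟩, CfsgLib.le_pPrimeCore hK3 (hK ▸ hkm), rfl⟩
  have hP₀M : ∀ u ∈ P₀, (u : G) ∈ M := fun u hu => hRM (hR ▸ ⟨u, CfsgLib.le_pPrimeCore hP₀3 hu, rfl⟩)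
  have heM : e ∈ M := hM e (by simp) e heD (Commute.refl e)
  -- the Frattini argument
  let q : D →* (D ⧸ W.subgroupOf D) ⧸ N := (QuotientGroup.mk' N).comp π
  have hq1 : q ed ≠ 1 := fun h => by
    have hm : π ed ∈ N := (QuotientGroup.eq_one_iff _).1 h
    have h1 := Subgroup.orderOf_dvd_natCard _ hm
    rw [heb] at h1
    exact absurd (Nat.eq_one_of_dvd_coprimes hN3 h1 dvd_rfl) (by norm_num)
  have hqo : orderOf (q ed) = 3 := orderOf_eq_prime
    (by rw [← map_pow, show ed ^ 3 = 1 from Subtype.ext (by rw [Subgroup.coe_pow, hed, he]; rfl), map_one]) hq1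
  obtain ⟨hnormal, h36⟩ : (Subgroup.zpowers (q ed)).Normal ∧
      (Nat.card ((D ⧸ W.subgroupOf D) ⧸ N) = 3 ∨ Nat.card ((D ⧸ W.subgroupOf D) ⧸ N) = 6) := by
    have h1 := (Subgroup.zpowers (q ed)).card_mul_index
    rw [Nat.card_zpowers, hqo] at h1
    rcases hcase with hc | ⟨⟨φ⟩⟩
    · rw [hc] at h1
      have : (Subgroup.zpowers (q ed)).index = 1 := by omega
      rw [Subgroup.index_eq_one.1 this]
      exact ⟨inferInstance, Or.inl hc⟩
    · have hc : Nat.card ((D ⧸ W.subgroupOf D) ⧸ N) = 6 := by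
        rw [Nat.card_congr φ.toEquiv, Nat.card_perm, Nat.card_fin]; rfl
      rw [hc] at h1
      exact ⟨Subgroup.normal_of_index_eq_two (by omega), Or.inr hc⟩
  obtain ⟨T, hT⟩ : ∃ T, T = (Subgroup.zpowers (q ed)).comap q := ⟨_, rfl⟩
  haveI : T.Normal := hT ▸ hnormal.comap _
  have hqker : ∀ u : D, q u = 1 ↔ u ∈ P₀ := fun u => by
    rw [hP₀]; exact QuotientGroup.eq_one_iff (π u)
  have hedT : ed ∈ T := hT ▸ Subgroup.mem_zpowers (q ed)
  have hTM : ∀ u ∈ T, (u : G) ∈ M := by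
    intro u hu
    rw [hT] at hu
    obtain ⟨n, hn⟩ := Subgroup.mem_zpowers_iff.1 hu
    have h := hP₀M _ ((hqker (ed ^ (-n) * u)).1 (by rw [map_mul, map_zpow, zpow_neg, hn, inv_mul_cancel]))
    rw [Subgroup.coe_mul, Subgroup.coe_zpow, hed] at h
    have := mul_mem (zpow_mem heM n) h
    rwa [← mul_assoc, ← zpow_add, add_neg_cancel, zpow_zero, one_mul] at this
  obtain ⟨Q, hQ⟩ := (IsPGroup.of_card (n := 1) (show Nat.card (Subgroup.zpowers (⟨ed, hedT⟩ : T)) = 3 ^ 1 by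
    rw [Nat.card_zpowers, ← Subgroup.orderOf_coe, ← Subgroup.orderOf_coe]
    exact (congrArg orderOf hed).trans (hord3.trans (pow_one 3).symm))).exists_le_sylow (p := 3)
  have hQeq : (Q : Subgroup T) = Subgroup.zpowers ⟨ed, hedT⟩ := by
    refine (Subgroup.eq_of_le_of_card_ge hQ ?_).symm
    rw [Nat.card_zpowers, ← Subgroup.orderOf_coe, ← Subgroup.orderOf_coe]
    refine le_trans ?_ (le_of_eq ((congrArg orderOf hed).trans hord3).symm)
    obtain ⟨i, hi⟩ := Q.2.exists_card_eq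
    rw [hi]
    by_contra hlt
    have hi2 : 2 ≤ i := by
      by_contra h
      exact hlt (le_trans (Nat.pow_le_pow_right (by norm_num) (show i ≤ 1 by omega)) (by norm_num))
    have h9 : 3 ^ 2 ∣ Nat.card D := ((pow_dvd_pow 3 hi2).trans (hi ▸ Subgroup.card_subgroup_dvd_card _)).trans
      (Subgroup.card_subgroup_dvd_card T)
    rw [← P₀.card_mul_index, hidx, Subgroup.index_eq_card] at h9
    have := (Nat.Coprime.pow_left 2 hP₀3.symm).dvd_of_dvd_mul_left h9
    rcases h36 with h | h <;> rw [h] at this <;> norm_num at this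
  have hsup := Sylow.normalizer_sup_eq_top Q
  intro g hg
  obtain ⟨n, hn, u, hu, hnu⟩ := Subgroup.mem_sup_of_normal_right.1
    (hsup ▸ Subgroup.mem_top (⟨g, hg⟩ : D) : (⟨g, hg⟩ : D) ∈ _)
  have hne : (n : G) ∈ M := by
    refine hN n n.2 ?_
    have h := (Subgroup.mem_normalizer_iff.1 hn ed).1 ⟨⟨ed, hedT⟩, hQeq ▸ Subgroup.mem_zpowers _, rfl⟩
    obtain ⟨v, hv, hve⟩ := h
    rw [hQeq] at hv
    obtain ⟨i, rfl⟩ := Subgroup.mem_zpowers_iff.1 hv
    have he' : (n : G) * e * (n : G)⁻¹ = e ^ i := by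
      have := congrArg (fun u : D => (u : G)) hve
      simpa [hed] using this.symm
    have e3 : e ^ (3 : ℤ) = 1 := by rw [show (3 : ℤ) = ((3 : ℕ) : ℤ) from rfl, zpow_natCast, he]
    rw [← Int.emod_add_mul_ediv i 3, zpow_add, zpow_mul, e3, one_zpow, mul_one] at he'
    rcases (show i % 3 = 0 ∨ i % 3 = 1 ∨ i % 3 = 2 by omega) with h0 | h0 | h0 <;> rw [h0] at he'
    · rw [zpow_zero, conj_eq_one_iff] at he'; exact absurd he' he1
    · left; simpa using he'
    · right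
      rw [he', show (2 : ℤ) = 3 - 1 by norm_num, zpow_sub, e3, zpow_one, one_mul]
  have := mul_mem hne (hTM u hu)
  rwa [← Subgroup.coe_mul, hnu] at this

end CfsgPSp43Real
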