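import Cfsg.Agent.Lib.PSp43Real.Dich
import Cfsg.Agent.Lib.PSp43Real.Closure
import Cfsg.Agent.Lib.PSp43Real.Sp.Self

/-!
The symmetric groups of degree six of two blocks and the relation between them: the centraliser of a group of order
eight controlled by an element of order three.
-/

set_option autoImplicit false
set_option linter.style.haveILetI false
set_option synthInstance.maxSize 4000
set_option maxRecDepth 8000

namespace CfsgPSp43Real

open Subgroup Equiv Equiv.Perm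
open CfsgLib.Sym9Three (V3 xv Mon Sub tr rot act ev rt3 eType line_facts)

/-- The shift of the blocks. -/
abbrev cyc : Mon := rot 4

theorem shift_facts : cyc * rot 24 = rot 6 * cyc ∧ cyc * rot 6 = rot 12 * cyc ∧ cyc * rot 12 = rot 24 * cyc ∧
    cyc * tr ev = tr u0 * cyc ∧ cyc * tr u0 = tr u1 * cyc ∧ cyc * tr u1 = tr ev * cyc ∧
    cyc * rot 1 = rot 2 * cyc := by decide +kernel

/-- The conditions on the centraliser of the group of order eight. -/
def inW1 (y : Perm (Fin 6)) : Prop :=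
  y * swap 1 2 = swap 1 2 * y ∧ y * (swap 0 3 * swap 4 5) = (swap 0 3 * swap 4 5) * y ∧
    y * (swap 0 4 * swap 3 5) = (swap 0 4 * swap 3 5) * y

instance (y : Perm (Fin 6)) : Decidable (inW1 y) := by unfold inW1; infer_instance

/-- The conditions on a group of order sixteen. -/
def inT1 (y : Perm (Fin 6)) : Prop :=
  y * swap 1 2 = swap 1 2 * y ∧ y * (swap 0 3 * swap 4 5) = (swap 0 3 * swap 4 5) * y

instance (y : Perm (Fin 6)) : Decidable (inT1 y) := by unfold inT1; infer_instance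

/-- The elements of the group of order eight. -/
def w1List : List (Perm (Fin 6)) :=
  [1, swap 1 2, swap 0 3 * swap 4 5, swap 0 4 * swap 3 5, swap 0 5 * swap 3 4, swap 1 2 * (swap 0 3 * swap 4 5),
    swap 1 2 * (swap 0 4 * swap 3 5), swap 1 2 * (swap 0 5 * swap 3 4)]

theorem w1_facts : (∀ y, inW1 y → y ∈ w1List) ∧
    (∀ y ∈ w1List, inW1 y ∧ y * y = 1 ∧ inW1 (cB * y * cB⁻¹) ∧ ∀ z ∈ w1List, y * z = z * y) ∧
    cB * cB * cB = 1 ∧ cA * cA * cA = 1 := by decide +kernel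

/-- The permutations of the first four points with the exchange of the last two. -/
def cFour : List (Perm (Fin 6)) :=
  [1, swap 0 1, swap 0 2, swap 1 2, swap 0 1 * swap 1 2, swap 1 2 * swap 0 1, swap 4 5, swap 4 5 * swap 0 1,
    swap 4 5 * swap 0 2, swap 4 5 * swap 1 2, swap 4 5 * (swap 0 1 * swap 1 2), swap 4 5 * (swap 1 2 * swap 0 1)]

theorem four_facts : (∀ y : Perm (Fin 6), y * swap 4 5 = swap 4 5 * y →
      y ^ 12 = 1 ∧ (y * cA * y⁻¹ = cA ∨ y * cA * y⁻¹ = cA⁻¹ ∨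
        ∃ a ∈ cFour, ∃ b ∈ cFour, a * y * b = swap 0 1 * swap 2 3)) ∧
    (∀ a ∈ cFour, ∃ i : Fin 3, ∃ j k l : Fin 2,
      a = swap 0 1 ^ j.val * (cA ^ i.val * swap 0 1 ^ k.val) * swap 4 5 ^ l.val) := by decide +kernel

/-- The three products of three transpositions. -/
def tList : List (Perm (Fin 6)) :=
  [swap 1 2 * (swap 0 3 * swap 4 5), swap 1 2 * (swap 0 4 * swap 3 5), swap 1 2 * (swap 0 5 * swap 3 4)]

theorem t1_elem : ∀ y, inT1 y → y ^ 4 = 1 ∧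
    (y * y = 1 → y = 1 ∨ y ∈ tList ∨
      ∃ k : Perm (Fin 6), k * y * k⁻¹ = swap 3 4 ∨ k * y * k⁻¹ = swap 0 1 * swap 3 4) := by decide +kernel

theorem t1_sub : ∀ y, inW1 y → inT1 y := by decide +kernel

theorem t1_tri : ∀ y ∈ tList, inW1 y ∧ ∃ k : Perm (Fin 6), k * y * k⁻¹ = cW := by decide +kernel

theorem t1_gen : swap (1 : Fin 6) 2 = (swap 1 2 * (swap 0 3 * swap 4 5)) * (swap 1 2 * (swap 0 4 * swap 3 5)) *
    (swap 1 2 * (swap 0 5 * swap 3 4)) := by decide +kernel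

theorem t1_norm : ∀ y : Perm (Fin 6), y ^ 16 = 1 → inT1 (y * swap 1 2 * y⁻¹) →
    inT1 (y * (swap 0 3 * swap 4 5) * y⁻¹) → inT1 (y * swap 0 3 * y⁻¹) →
    inT1 (y * (swap 0 4 * swap 3 5) * y⁻¹) → inT1 y := by decide +kernel

theorem loc_mon : (∀ m : Mon, act m.g (u0 + ev) = u0 + ev → m * (rot 12 * tr u1) = rot 12 * tr u1 * m →
      act m.g u0 = u0 ∨ act m.g u0 = ev ∨ act m.g u0 = -ev) ∧
    (∀ m : Mon, act m.g (-u0 + ev) = -u0 + ev → m * (rot 12 * tr u1) = rot 12 * tr u1 * m →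
      act m.g u0 = u0 ∨ act m.g u0 = ev ∨ act m.g u0 = -ev) ∧
    two (u0 + ev) ∧ two (-u0 + ev) ∧
    rot 12 * rot 24 = rot 36 ∧ (∃ n : Fin 48, rot n * rot 36 = rot 18 * rot n) ∧
    rot 6 * rot 24 = rot 30 ∧ (∃ n : Fin 48, rot n * rot 30 = rot 18 * rot n) ∧
    rot 6 * rot 36 = rot 42 ∧ (∃ n : Fin 48, rot n * (rot 6 * rot 2) = rot 25 * rot n) ∧
    (∃ n : Fin 48, rot n * rot 2 = rot 1 * rot n) ∧ (∃ n : Fin 48, rot n * rot 6 = rot 24 * rot n) := by
  decide +kernel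

universe u

variable {G : Type u} [Group G]

namespace Frame3

variable {F : Frame3 G} (D : F.SixE)

/-- The symmetric group of degree six of the last two blocks. -/
def SixE.Φ0 : Perm (Fin 6) →* G := (MulAut.conj (F.φ cyc)).toMonoidHom.comp D.Φ

theorem SixE.Φ0_apply (y : Perm (Fin 6)) : D.Φ0 y = F.φ cyc * D.Φ y * (F.φ cyc)⁻¹ := rfl

theorem SixE.Φ0_inj : Function.Injective D.Φ0 := (MulAut.conj _).injective.comp D.inj

theorem SixE.Φ_12 : D.Φ (swap 1 2) = F.φ (rot 6 * tr u0) := by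
  rw [← six_middle_conj.1, map_mul, map_mul, D.p0, D.a0, F.φ_tr]

theorem SixE.Φ_45 : D.Φ (swap 4 5) = F.φ (rot 12 * tr u1) := by
  rw [← six_middle_conj.2, map_mul, map_mul, D.p1, D.a1, F.φ_tr]

theorem SixE.Φ0_01 : D.Φ0 (swap 0 1) = F.φ (rot 12) := by
  rw [D.Φ0_apply, D.p0]; exact F.φ_conj_eq shift_facts.2.1

theorem SixE.Φ0_34 : D.Φ0 (swap 3 4) = F.φ rt3 := by
  rw [D.Φ0_apply, D.p1]; exact F.φ_conj_eq shift_facts.2.2.1

theorem SixE.Φ0_A : D.Φ0 cA = F.j u1 := by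
  rw [D.Φ0_apply, D.a0, ← F.φ_tr, ← F.φ_tr]; exact F.φ_conj_eq shift_facts.2.2.2.2.1

theorem SixE.Φ0_B : D.Φ0 cB = F.j ev := by
  rw [D.Φ0_apply, D.a1, ← F.φ_tr, ← F.φ_tr]; exact F.φ_conj_eq shift_facts.2.2.2.2.2.1

theorem SixE.Φ0_W : D.Φ0 cW = F.φ (rot 2) := by
  rw [D.Φ0_apply, D.w]; exact F.φ_conj_eq shift_facts.2.2.2.2.2.2

theorem SixE.Φ0_12 : D.Φ0 (swap 1 2) = F.φ (rot 12 * tr u1) := by
  rw [← six_middle_conj.1, map_mul, D.Φ0_01, D.Φ0_A, map_mul, F.φ_tr]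

theorem SixE.Φ0_45 : D.Φ0 (swap 4 5) = F.φ (rt3 * tr ev) := by
  rw [← six_middle_conj.2, map_mul, D.Φ0_34, D.Φ0_B, map_mul, F.φ_tr]

theorem SixE.Φ0_comm_e (y : Perm (Fin 6)) : Commute (D.Φ0 y) (F.j u0) := by
  rw [D.Φ0_apply, ← F.φ_tr, ← F.φ_conj_eq shift_facts.2.2.2.1, F.φ_tr]
  exact (D.comm_ev y).conj _

theorem SixE.Φ0_comm_d (y : Perm (Fin 6)) : Commute (D.Φ0 y) (F.φ (rot 6)) := by
  rw [D.Φ0_apply, ← F.φ_conj_eq shift_facts.1]
  exact (D.comm_d y).conj _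

theorem SixE.split0 {g : G} (hg : Commute g (F.j u0)) : ∃ y, ∃ i : Fin 3, g = D.Φ0 y * F.j (i.val • u0) := by
  have hc : Commute ((F.φ cyc)⁻¹ * g * F.φ cyc) (F.j ev) := by
    have h := hg.conj (F.φ cyc)⁻¹
    rwa [← F.φ_tr u0, ← F.φ_conj_eq shift_facts.2.2.2.1, F.φ_tr, inv_inv,
      show (F.φ cyc)⁻¹ * (F.φ cyc * F.j ev * (F.φ cyc)⁻¹) * F.φ cyc = F.j ev by group] at h
  obtain ⟨y, i, hy⟩ := D.split _ hc
  refine ⟨y, i, ?_⟩
  rw [F.j_smul, ← F.φ_tr u0, ← F.φ_conj_eq shift_facts.2.2.2.1, F.φ_tr, conj_pow, ← F.j_smul, D.Φ0_apply]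
  calc g = F.φ cyc * ((F.φ cyc)⁻¹ * g * F.φ cyc) * (F.φ cyc)⁻¹ := by group
    _ = _ := by rw [hy]; group

variable [Finite G]

include D in
theorem SixE.sep_classes (g : G) : g * F.φ (rot 18) * g⁻¹ ≠ F.φ (rot 24) ∧ g * F.φ (rot 18) * g⁻¹ ≠ F.φ (rot 1) ∧
    g * F.φ (rot 18) * g⁻¹ ≠ F.φ (rot 25) := by
  refine F.sep_s (fun g hg => ?_) g
  obtain ⟨y, i, rfl⟩ := D.split g hg
  have h18 : F.φ (rot 18) = D.Φ (swap 0 1 * swap 3 4) := by
    rw [map_mul, D.p0, D.p1, ← map_mul]; exact congrArg F.φ (by decide +kernel)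
  have hc : ∀ z, Commute (F.j (i.val • ev)) (D.Φ z) := fun z => by
    rw [F.j_smul]; exact (D.comm_ev z).symm.pow_left _
  have key : D.Φ y * F.j (i.val • ev) * F.φ (rot 18) * (D.Φ y * F.j (i.val • ev))⁻¹ =
      D.Φ (y * (swap 0 1 * swap 3 4) * y⁻¹) := by
    rw [h18, mul_assoc (D.Φ y), (hc _).eq, mul_inv_rev, map_mul D.Φ (y * _), map_mul D.Φ y, map_inv]; group
  rw [key, ← D.p0, ← D.w]
  exact ⟨fun h => (by decide +kernel : ∀ y : Perm (Fin 6), y * (swap 0 1 * swap 3 4) * y⁻¹ ≠ swap 0 1) y (D.inj h),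
    fun h => (by decide +kernel : ∀ y : Perm (Fin 6), y * (swap 0 1 * swap 3 4) * y⁻¹ ≠ cW) y (D.inj h)⟩

/-- The group of order eight. -/
def SixE.W1 : Subgroup G :=
  (Subgroup.centralizer ({swap 1 2, swap 0 3 * swap 4 5, swap 0 4 * swap 3 5} : Set (Perm (Fin 6)))).map D.Φ0

omit [Finite G] in
theorem SixE.mem_W1 {g : G} : g ∈ D.W1 ↔ ∃ y, inW1 y ∧ D.Φ0 y = g := by
  rw [SixE.W1, Subgroup.mem_map]
  refine exists_congr fun y => and_congr_left fun _ => ?_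
  rw [Subgroup.mem_centralizer_iff]
  exact ⟨fun h => ⟨(h _ (Or.inl rfl)).symm, (h _ (Or.inr (Or.inl rfl))).symm, (h _ (Or.inr (Or.inr rfl))).symm⟩,
    fun ⟨a, b, c⟩ z hz => by rcases hz with rfl | rfl | rfl <;> [exact a.symm; exact b.symm; exact c.symm]⟩

omit [Finite G] in
theorem SixE.mem_cent_W1 {g : G} : g ∈ Subgroup.centralizer (D.W1 : Set G) ↔ ∀ y, inW1 y → Commute g (D.Φ0 y) := by
  rw [Subgroup.mem_centralizer_iff]
  exact ⟨fun h y hy => (h _ (D.mem_W1.2 ⟨y, hy, rfl⟩)).symm, fun h z hz => by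
    obtain ⟨y, hy, rfl⟩ := D.mem_W1.1 hz
    exact (h y hy).eq.symm⟩

/-- The relation between the two symmetric groups. -/
theorem SixE.cross : Commute (D.Φ (swap 2 3)) (D.Φ0 (swap 0 5)) := by
  obtain ⟨hlist, hel, hB3, hA3⟩ := w1_facts
  obtain ⟨hfour, hcF⟩ := four_facts
  have hWT := t1_sub
  have htri := t1_tri
  have h12e := t1_gen
  have ht := t1_elem
  obtain ⟨hm1, hm2, htwo1, htwo2, h1224, ⟨n36, hn36⟩, h624, ⟨n30, hn30⟩, h636, ⟨n62, hn62⟩, ⟨n2, hn2⟩, ⟨n6, hn6⟩⟩ :=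
    loc_mon
  obtain ⟨C, hC⟩ : ∃ C, C = Subgroup.centralizer (D.W1 : Set G) := ⟨_, rfl⟩
  have hmemC : ∀ g, g ∈ C ↔ ∀ y, inW1 y → Commute g (D.Φ0 y) := fun g => hC ▸ D.mem_cent_W1
  have hinW : ∀ y, inW1 y → D.Φ0 y ∈ D.W1 := fun y hy => D.mem_W1.2 ⟨y, hy, rfl⟩
  have hWC : D.W1 ≤ C := fun g hg => (hmemC g).2 fun z hz => by
    obtain ⟨y, hy, rfl⟩ := D.mem_W1.1 hg
    exact (show Commute y z from (hel y (hlist y hy)).2.2.2 z (hlist z hz)).map D.Φ0
  have hW2 : IsPGroup 2 D.W1 := fun g => ⟨1, Subtype.ext (by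
    obtain ⟨y, hy, e⟩ := D.mem_W1.1 g.2
    rw [pow_one, Subgroup.coe_pow, pow_two, ← e, ← map_mul, (hel y (hlist y hy)).2.1, map_one]; rfl)⟩
  have heC : F.j u0 ∈ C := (hmemC _).2 fun y _ => (D.Φ0_comm_e y).symm
  have hdC : F.φ (rot 6) ∈ C := (hmemC _).2 fun y _ => (D.Φ0_comm_d y).symm
  have h12C : D.Φ0 (swap 1 2) ∈ C := hWC (hinW _ (by decide))
  obtain ⟨M, hM⟩ : ∃ M, M = C ⊓ Subgroup.normalizer (Subgroup.zpowers (F.j u0) : Set G) := ⟨_, rfl⟩
  have hmemM : ∀ g ∈ C, g * F.j u0 * g⁻¹ = F.j u0 ∨ g * F.j u0 * g⁻¹ = (F.j u0)⁻¹ → g ∈ M := by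
    intro g hg h
    refine hM ▸ ⟨hg, ?_⟩
    have h1 : (Subgroup.zpowers (F.j u0)).map (MulAut.conj g).toMonoidHom = Subgroup.zpowers (F.j u0) := by
      rw [MonoidHom.map_zpowers]
      show Subgroup.zpowers (g * F.j u0 * g⁻¹) = _
      rcases h with h | h <;> rw [h]
      rw [Subgroup.zpowers_inv]
    refine Subgroup.mem_normalizer_iff.2 fun z => ?_
    constructor
    · exact fun hz => h1 ▸ ⟨z, hz, rfl⟩
    · intro hz
      obtain ⟨z', hz', e⟩ := (h1.symm ▸ hz : g * z * g⁻¹ ∈ (Subgroup.zpowers (F.j u0)).map (MulAut.conj g).toMonoidHom)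
      exact (MulAut.conj g).injective e ▸ hz'
  by_contra hgoal
  -- no element exchanging the fixed point
  have hno : ∀ a b : Perm (Fin 6), a ∈ cFour → b ∈ cFour → ∀ (y : Perm (Fin 6)) (i : ℕ),
      D.Φ y * F.j ev ^ i ∈ C → a * y * b ≠ swap 0 1 * swap 2 3 := by
    intro a b ha hb y i hy e
    have hin : ∀ a ∈ cFour, D.Φ a ∈ C := by
      intro a ha
      obtain ⟨i, j, k, l, rfl⟩ := hcF a ha
      simp only [map_mul, map_pow, D.p0, D.a0, D.Φ_45, ← D.Φ0_12]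
      exact mul_mem (mul_mem (pow_mem hdC _) (mul_mem (pow_mem heC _) (pow_mem hdC _))) (pow_mem h12C _)
    have h3 : (D.Φ a * (D.Φ y * F.j ev ^ i) * D.Φ b) ^ 3 ∈ C := pow_mem (mul_mem (mul_mem (hin a ha) hy) (hin b hb)) _
    rw [show D.Φ a * (D.Φ y * F.j ev ^ i) * D.Φ b = D.Φ a * D.Φ y * (F.j ev ^ i * D.Φ b) by group,
      ((D.comm_ev b).symm.pow_left i).eq, ← mul_assoc, ← map_mul, ← map_mul, e,
      ((D.comm_ev _).pow_right i).mul_pow, ← map_pow, ← pow_mul, mul_comm i 3, pow_mul, F.j_cube, one_pow, mul_one,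
      show (swap (0 : Fin 6) 1 * swap 2 3) ^ 3 = swap 0 1 * swap 2 3 by decide +kernel] at h3
    refine hgoal ?_
    have hx : Commute (D.Φ (swap 0 1 * swap 2 3)) (D.Φ0 (swap 0 5 * swap 3 4)) := (hmemC _).1 h3 _ (by decide)
    have hd : Commute (F.φ (rot 6)) (D.Φ0 (swap 0 5 * swap 3 4)) := (D.Φ0_comm_d _).symm
    have h23 : Commute (D.Φ (swap 2 3)) (D.Φ0 (swap 0 5 * swap 3 4)) := by
      have := hd.inv_left.mul_left hx
      rwa [map_mul D.Φ, D.p0, inv_mul_cancel_left] at this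
    have h34 : Commute (D.Φ (swap 2 3)) (D.Φ0 (swap 3 4)) := D.Φ0_34 ▸ D.comm_d _
    have := h23.mul_right h34
    rwa [← map_mul, mul_assoc, Equiv.swap_mul_self, mul_one] at this
  have hf : ∀ g ∈ C, Commute g (F.j ev) →
      ∃ y, ∃ i : Fin 3, g = D.Φ y * F.j (i.val • ev) ∧ y * swap 4 5 = swap 4 5 * y := by
    intro g hg hge
    obtain ⟨y, i, rfl⟩ := D.split g hge
    refine ⟨y, i, rfl, D.inj ?_⟩
    have h45 : Commute (D.Φ y * F.j (i.val • ev)) (D.Φ (swap 4 5)) := by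
      rw [D.Φ_45, ← D.Φ0_12]; exact (hmemC _).1 hg _ (by decide)
    have hc : Commute (F.j (i.val • ev)) (D.Φ (swap 4 5)) := by
      rw [F.j_smul]; exact (D.comm_ev _).symm.pow_left _
    have := h45.mul_left hc.inv_left
    rw [mul_inv_cancel_right] at this
    rw [map_mul, map_mul]; exact this.eq
  have hev : F.j ev ∉ C := fun h => by
    have h' := (hmemC _).1 h (swap 0 4 * swap 3 5) (by decide)
    rw [← D.Φ0_B] at h'
    exact absurd (D.Φ0_inj (a₁ := cB * (swap 0 4 * swap 3 5)) (a₂ := swap 0 4 * swap 3 5 * cB)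
      (by rw [map_mul D.Φ0 cB, map_mul D.Φ0 (_ * _) cB]; exact h'.eq)) (by decide +kernel)
  have hevn : F.j (-ev) ∉ C := fun h => hev (by rw [← inv_inv (F.j ev), ← F.j_neg]; exact inv_mem h)
  have htwoM : ∀ v : V3, two v → (∀ m : Mon, act m.g v = v → m * (rot 12 * tr u1) = rot 12 * tr u1 * m →
      act m.g u0 = u0 ∨ act m.g u0 = ev ∨ act m.g u0 = -ev) → ∀ g ∈ C, Commute g (F.j v) → g ∈ M := by
    intro v hv hmv g hg hgv
    obtain ⟨m, rfl⟩ := F.mem_N3.1 (F.good_two hv g hgv.eq)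
    have h1 := F.φ_comm_j.1 hgv
    have h2 : m * (rot 12 * tr u1) = rot 12 * tr u1 * m :=
      F.φ_comm.1 (D.Φ0_12 ▸ (hmemC _).1 hg _ (by decide))
    rcases hmv m h1 h2 with h | h | h
    · exact hmemM _ hg (Or.inl (by rw [F.φ_conj_j, h]))
    · exact absurd (h ▸ F.φ_conj_j m u0 ▸ mul_mem (mul_mem hg heC) (inv_mem hg)) hev
    · exact absurd (h ▸ F.φ_conj_j m u0 ▸ mul_mem (mul_mem hg heC) (inv_mem hg)) hevn
  have hef : F.j u0 * F.j ev = F.j (u0 + ev) := (F.j_add _ _).symm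
  have heef : F.j u0 * F.j u0 * F.j ev = F.j (-u0 + ev) := by
    rw [← F.j_add, ← F.j_add, (by decide +kernel : (u0 : V3) + u0 = -u0)]
  have hself : ∀ g ∈ C, Commute g (F.j u0) → ∃ i : ℕ, ∃ w ∈ D.W1, g = F.j u0 ^ i * w := by
    intro g hg hge
    obtain ⟨y, i, rfl⟩ := D.split0 hge
    have hy : inW1 y := by
      have hc : ∀ z, inW1 z → y * z = z * y := fun z hz => D.Φ0_inj (by
        have h := (hmemC _).1 hg z hz
        have hj : Commute (F.j (i.val • u0)) (D.Φ0 z) := by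
          rw [F.j_smul]; exact (D.Φ0_comm_e z).symm.pow_left _
        have := h.mul_left hj.inv_left
        rw [mul_inv_cancel_right] at this
        rw [map_mul, map_mul]; exact this.eq)
      exact ⟨hc _ (by decide), hc _ (by decide), hc _ (by decide)⟩
    exact ⟨i.val, _, hinW y hy, by rw [F.j_smul]; exact ((D.Φ0_comm_e y).pow_right _).eq⟩
  have hWord : ∀ y, inW1 y → ∀ i : ℕ, (F.j u0 ^ i * D.Φ0 y) ^ 6 = 1 := fun y hy i => by
    rw [((D.Φ0_comm_e y).symm.pow_left i).mul_pow, ← pow_mul, mul_comm i, show (6 : ℕ) * i = 3 * (2 * i) by omega,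
      pow_mul, F.j_cube, one_pow, one_mul, ← map_pow, show y ^ 6 = (y * y) ^ 3 by rw [← pow_two, ← pow_mul],
      (hel y (hlist y hy)).2.1, one_pow, map_one]
  have h57 : ∀ g : G, ∀ n : ℕ, g ^ n = 1 → ¬ 5 ∣ n → ¬ 7 ∣ n → ¬ 5 ∣ orderOf g ∧ ¬ 7 ∣ orderOf g :=
    fun g n h h5 h7 => ⟨fun hd => h5 (hd.trans (orderOf_dvd_of_pow_eq_one h)),
      fun hd => h7 (hd.trans (orderOf_dvd_of_pow_eq_one h))⟩
  have hfC : ∀ g ∈ C, F.j ev * g * (F.j ev)⁻¹ ∈ C := fun g hg => (hmemC _).2 fun y hy => by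
    have hc : inW1 (cB⁻¹ * y * cB) := by
      have h := (hel _ (hlist _ (hel y (hlist y hy)).2.2.1)).2.2.1
      rwa [show cB * (cB * y * cB⁻¹) * cB⁻¹ = (cB * cB) * y * (cB * cB)⁻¹ by group,
        eq_inv_of_mul_eq_one_left hB3, inv_inv] at h
    have := ((hmemC _).1 hg _ hc).conj (F.j ev)
    rwa [map_mul, map_mul, map_inv, D.Φ0_B,
      show F.j ev * ((F.j ev)⁻¹ * D.Φ0 y * F.j ev) * (F.j ev)⁻¹ = D.Φ0 y by group] at this
  have hCM : C ≤ M := by
    refine cent_le_of_self_three D.W1 C M (e := F.j u0) (f := F.j ev) hWC hW2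
      (fun w hw g hg => by obtain ⟨y, hy, rfl⟩ := D.mem_W1.1 hw; exact (hmemC g).1 hg y hy)
      heC (F.j_cube _) (F.j_ne_one (by decide)) (F.j_cube _) (F.J_comm (F.j_mem _) (F.j_mem _))
      (fun h => hev (Subgroup.zpowers_le.2 heC h)) hfC
      (fun w hw => by
        obtain ⟨y, hy, rfl⟩ := D.mem_W1.1 hw
        rw [← D.Φ0_B, ← map_inv, ← map_mul, ← map_mul]
        exact hinW _ (hel y (hlist y hy)).2.2.1)
      hself ?_ ?_ hmemM
    · intro x hx g hg hgx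
      simp only [List.mem_cons, List.not_mem_nil, or_false] at hx
      rcases hx with rfl | rfl | rfl | rfl
      · exact hmemM g hg (Or.inl (mul_inv_eq_iff_eq_mul.2 hgx.eq))
      · obtain ⟨y, i, rfl, hy⟩ := hf g hg hgx
        have hc : D.Φ y * F.j (i.val • ev) * F.j u0 * (D.Φ y * F.j (i.val • ev))⁻¹ = D.Φ (y * cA * y⁻¹) := by
          rw [mul_assoc (D.Φ y), (F.J_comm (F.j_mem _) (F.j_mem _) :
            F.j (i.val • ev) * F.j u0 = F.j u0 * F.j (i.val • ev)), map_mul, map_mul, map_inv, D.a0]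
          group
        rcases (hfour y hy).2 with h | h | ⟨a, ha, b, hb, e⟩
        · exact hmemM _ hg (Or.inl (by rw [hc, h, D.a0]))
        · exact hmemM _ hg (Or.inr (by rw [hc, h, map_inv, D.a0]))
        · exact absurd e (hno a b ha hb y i.val (by rwa [← F.j_smul]))
      · exact htwoM _ htwo1 hm1 g hg (hef ▸ hgx)
      · exact htwoM _ htwo2 hm2 g hg (heef ▸ hgx)
    · intro x hx g hg hgx
      simp only [List.mem_cons, List.not_mem_nil, or_false] at hx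
      have hN : ∀ v : V3, two v → Commute g (F.j v) → ¬ 5 ∣ orderOf g ∧ ¬ 7 ∣ orderOf g := fun v hv h => by
        refine h57 g 1296 ?_ (by norm_num) (by norm_num)
        obtain ⟨m, rfl⟩ := F.mem_N3.1 (F.good_two hv g h.eq)
        have hMon : Nat.card Mon = 1296 := by rw [Nat.card_eq_fintype_card]; decide +kernel
        have hm : m ^ 1296 = 1 := hMon ▸ pow_card_eq_one'
        rw [← map_pow, hm, map_one]
      rcases hx with rfl | rfl | rfl | rfl
      · obtain ⟨i, w, hw, rfl⟩ := hself g hg hgx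
        obtain ⟨y, hy, rfl⟩ := D.mem_W1.1 hw
        exact h57 _ 6 (hWord y hy i) (by norm_num) (by norm_num)
      · obtain ⟨y, i, rfl, hy⟩ := hf g hg hgx
        refine h57 _ 36 ?_ (by norm_num) (by norm_num)
        rw [F.j_smul, ((D.comm_ev y).pow_right _).mul_pow, ← map_pow, show (36 : ℕ) = 12 * 3 from rfl, pow_mul y,
          (hfour y hy).1, one_pow, map_one, one_mul, ← pow_mul, mul_comm, mul_assoc, mul_comm 12, mul_assoc,
          pow_mul, F.j_cube, one_pow]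
      · exact hN _ htwo1 (hef ▸ hgx)
      · exact hN _ htwo2 (heef ▸ hgx)
  -- a group of order thirty-two of exponent four
  let T : Subgroup G :=
    { carrier := {g | ∃ y, inT1 y ∧ (g = D.Φ0 y ∨ g = F.φ (rot 6) * D.Φ0 y)}
      mul_mem' := by
        rintro p q ⟨y, hy, hp⟩ ⟨z, hz, hq⟩
        have hyz : inT1 (y * z) := ⟨(Commute.mul_left (hy.1 : Commute y _) hz.1).eq,
          (Commute.mul_left (hy.2 : Commute y _) hz.2).eq⟩
        refine ⟨y * z, hyz, ?_⟩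
        have hd2 : F.φ (rot 6) * F.φ (rot 6) = 1 := F.φ_sq (by decide +kernel)
        rcases hp with rfl | rfl <;> rcases hq with rfl | rfl <;> rw [map_mul]
        · exact Or.inl rfl
        · right; rw [← mul_assoc, (D.Φ0_comm_d y).eq, mul_assoc]
        · right; rw [mul_assoc]
        · left
          rw [mul_assoc, ← mul_assoc (D.Φ0 y), (D.Φ0_comm_d y).eq, mul_assoc, ← mul_assoc, ← mul_assoc, hd2, one_mul]
      one_mem' := ⟨1, by decide, Or.inl (map_one _).symm⟩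
      inv_mem' := by
        rintro p ⟨y, hy, hp⟩
        refine ⟨y⁻¹, ⟨(Commute.inv_left (hy.1 : Commute y _)).eq, (Commute.inv_left (hy.2 : Commute y _)).eq⟩, ?_⟩
        rcases hp with rfl | rfl
        · exact Or.inl (map_inv _ _).symm
        · right
          rw [mul_inv_rev, map_inv, inv_eq_of_mul_eq_one_right (F.φ_sq (r := 6) (by decide +kernel)),
            (D.Φ0_comm_d y).inv_left.eq] }
  have hTmem : ∀ g, g ∈ T ↔ ∃ y, inT1 y ∧ (g = D.Φ0 y ∨ g = F.φ (rot 6) * D.Φ0 y) := fun g => Iff.rfl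
  have hT4 : ∀ g ∈ T, g ^ 4 = 1 := by
    intro g hg
    obtain ⟨y, hy, rfl | rfl⟩ := (hTmem g).1 hg
    · rw [← map_pow, (ht y hy).1, map_one]
    · rw [(D.Φ0_comm_d y).symm.mul_pow, ← map_pow D.Φ0, (ht y hy).1, map_one, mul_one,
        show (4 : ℕ) = 2 * 2 from rfl, pow_mul, pow_two (F.φ (rot 6)), F.φ_sq (r := 6) (by decide +kernel), one_pow]
  have hT2 : IsPGroup 2 T := fun g => ⟨2, Subtype.ext (hT4 _ g.2)⟩
  refine F.not_exp_four hT2 (fun g hgN hg2 => ?_) hT4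
  have hgT : ∀ z ∈ T, g * z * g⁻¹ ∈ T := fun z hz => (Subgroup.mem_normalizer_iff.1 hgN z).1 hz
  -- the class of the exchange
  have hW12 : ∀ y ∈ tList, g * D.Φ0 y * g⁻¹ ∈ D.W1 := by
    intro y hy
    obtain ⟨hyW, k, hk⟩ := htri y hy
    have hcls : ∃ c, c * F.φ (rot 1) * c⁻¹ = g * D.Φ0 y * g⁻¹ := by
      refine ⟨g * (D.Φ0 k)⁻¹ * (F.φ (rot n2))⁻¹, ?_⟩
      rw [← F.φ_conj_eq hn2, ← D.Φ0_W, ← hk, map_mul, map_mul, map_inv]
      group
    obtain ⟨c, hc⟩ := hcls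
    obtain ⟨z, hz, e⟩ := (hTmem _).1 (hgT _ ((hTmem _).2 ⟨y, hWT y hyW, Or.inl rfl⟩))
    have hsq : g * D.Φ0 y * g⁻¹ * (g * D.Φ0 y * g⁻¹) = 1 := by
      rw [conj_mul, ← map_mul, (hel y (hlist y hyW)).2.1, map_one, mul_one, mul_inv_cancel]
    have hd2 : F.φ (rot 6) * F.φ (rot 6) = 1 := F.φ_sq (by decide +kernel)
    have hz2 : z * z = 1 := D.Φ0_inj (by
      rw [map_mul, map_one]
      rcases e with e | e <;> rw [e] at hsq
      · exact hsq
      · rwa [show F.φ (rot 6) * D.Φ0 z * (F.φ (rot 6) * D.Φ0 z) = F.φ (rot 6) * F.φ (rot 6) * (D.Φ0 z * D.Φ0 z)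
          from (D.Φ0_comm_d z).mul_mul_mul_comm _ _, hd2, one_mul] at hsq)
    have hne : ∀ r : Fin 48, ∀ c' : G, c' * F.φ (rot r) * c'⁻¹ = g * D.Φ0 y * g⁻¹ → r ∉ ([24, 18, 25] : List (Fin 48)) := by
      intro r c' h hr
      have e' : (c'⁻¹ * c) * F.φ (rot 1) * (c'⁻¹ * c)⁻¹ = F.φ (rot r) := by
        rw [show (c'⁻¹ * c) * F.φ (rot 1) * (c'⁻¹ * c)⁻¹ = c'⁻¹ * (c * F.φ (rot 1) * c⁻¹) * c' by group, hc, ← h]
        group
      simp only [List.mem_cons, List.not_mem_nil, or_false] at hr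
      rcases hr with rfl | rfl | rfl
      · exact (F.sep_three _).1 e'
      · refine (D.sep_classes (c'⁻¹ * c)⁻¹).2.1 ?_
        rw [← e']; group
      · refine (F.sep_three (c'⁻¹ * c)⁻¹).2.2 ?_
        rw [← e']; group
    rcases e with e | e
    · rcases (ht z hz).2 hz2 with rfl | hzl | ⟨k', hk'⟩
      · rw [map_one, conj_eq_one_iff, ← map_one D.Φ0] at e
        exact absurd (D.Φ0_inj e ▸ hy) (by decide +kernel)
      · exact e ▸ hinW z (htri z hzl).1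
      · exfalso
        rcases hk' with hk' | hk'
        · refine hne 24 (D.Φ0 k')⁻¹ ?_ (by simp)
          rw [e, show F.φ (rot 24) = D.Φ0 (swap 3 4) from D.Φ0_34.symm, ← hk', map_mul, map_mul, map_inv]; group
        · refine hne 18 ((D.Φ0 k')⁻¹ * (F.φ (rot n36))⁻¹) ?_ (by simp)
          rw [e, ← F.φ_conj_eq hn36, ← h1224, map_mul, ← D.Φ0_01, show F.φ (rot 24) = D.Φ0 (swap 3 4) from D.Φ0_34.symm,
            ← map_mul, ← hk', map_mul, map_mul, map_inv]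
          group
    · exfalso
      have hk'' : ∀ k' u, k' * z * k'⁻¹ = u →
          (D.Φ0 k')⁻¹ * (F.φ (rot 6) * D.Φ0 u) * D.Φ0 k' = g * D.Φ0 y * g⁻¹ := fun k' u hu => by
        rw [e, ← mul_assoc, ((D.Φ0_comm_d k').inv_left).eq, mul_assoc (F.φ (rot 6) * _), mul_assoc (F.φ (rot 6)),
          ← mul_assoc _ (D.Φ0 u), ← hu, map_mul, map_mul, map_inv]
        group
      rcases (ht z hz).2 hz2 with rfl | hzl | ⟨k', hk'⟩
      · rw [map_one, mul_one] at e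
        refine hne 24 (F.φ (rot n6))⁻¹ ?_ (by simp)
        rw [e, ← F.φ_conj_eq hn6]; group
      · obtain ⟨-, k', hk'⟩ := htri z hzl
        refine hne 25 ((D.Φ0 k')⁻¹ * (F.φ (rot n62))⁻¹) ?_ (by simp)
        rw [← hk'' k' cW hk', D.Φ0_W, ← map_mul, ← F.φ_conj_eq hn62]; group
      · rcases hk' with hk' | hk'
        · refine hne 18 ((D.Φ0 k')⁻¹ * (F.φ (rot n30))⁻¹) ?_ (by simp)
          rw [← hk'' k' _ hk', ← F.φ_conj_eq hn30, ← h624, map_mul, D.Φ0_34]; group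
        · obtain ⟨c4, hc4⟩ := F.all_signs_conj
          refine hne 25 ((D.Φ0 k')⁻¹ * c4⁻¹) ?_ (by simp)
          rw [← hk'' k' _ hk', ← hc4, ← h636, map_mul D.Φ0, D.Φ0_01, D.Φ0_34, ← h1224, map_mul, map_mul]; group
  have hW1n : ∀ w ∈ D.W1, g * w * g⁻¹ ∈ D.W1 := by
    have h12 : g * D.Φ0 (swap 1 2) * g⁻¹ ∈ D.W1 := by
      rw [h12e, map_mul, map_mul, ← conj_mul, ← conj_mul]
      exact mul_mem (mul_mem (hW12 _ (by simp [tList])) (hW12 _ (by simp [tList]))) (hW12 _ (by simp [tList]))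
    have hdbl : ∀ v, swap 1 2 * v ∈ tList → g * D.Φ0 v * g⁻¹ ∈ D.W1 := fun v hv => by
      have := mul_mem h12 (hW12 _ hv)
      rwa [conj_mul, ← map_mul, ← mul_assoc, swap_mul_self, one_mul] at this
    rintro w hw
    obtain ⟨y, hy, rfl⟩ := D.mem_W1.1 hw
    have := hlist y hy
    simp only [w1List, List.mem_cons, List.not_mem_nil, or_false] at this
    rcases this with rfl | rfl | rfl | rfl | rfl | rfl | rfl | rfl
    · rw [map_one, mul_one, mul_inv_cancel]; exact one_mem _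
    · exact h12
    · exact hdbl _ (by simp [tList])
    · exact hdbl _ (by simp [tList])
    · exact hdbl _ (by simp [tList])
    · exact hW12 _ (by simp [tList])
    · exact hW12 _ (by simp [tList])
    · exact hW12 _ (by simp [tList])
  have hgC : ∀ z ∈ C, g * z * g⁻¹ ∈ C := by
    intro z hz
    refine hC ▸ Subgroup.mem_centralizer_iff.2 fun w hw => ?_
    obtain ⟨w', hw'⟩ : ∃ w' : D.W1, g * (w' : G) * g⁻¹ = w := by
      have hsur := (Finite.injective_iff_surjective (f := fun u : D.W1 => (⟨g * u * g⁻¹, hW1n u u.2⟩ : D.W1))).1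
        (fun a b h => Subtype.ext ((MulAut.conj g).injective (congrArg Subtype.val h)))
      obtain ⟨w', hw'⟩ := hsur ⟨w, hw⟩
      exact ⟨w', congrArg Subtype.val hw'⟩
    rw [← hw', conj_mul, conj_mul, (Subgroup.mem_centralizer_iff.1 (hC ▸ hz) _ w'.2)]
  -- the element of order three
  have hge : g * F.j u0 * g⁻¹ = F.j u0 ∨ g * F.j u0 * g⁻¹ = (F.j u0)⁻¹ := by
    obtain ⟨e', he'⟩ : ∃ e', e' = g * F.j u0 * g⁻¹ := ⟨_, rfl⟩
    have he'C : e' ∈ C := he' ▸ hgC _ heC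
    have h3 : e' ^ 3 = 1 := by rw [he', conj_pow, F.j_cube, mul_one, mul_inv_cancel]
    have he1 : e' ≠ 1 := fun h => F.j_ne_one (show u0 ≠ 0 by decide) (conj_eq_one_iff.1 (he' ▸ h))
    rw [← he']
    have hn := (hM ▸ hCM he'C : e' ∈ C ⊓ Subgroup.normalizer (Subgroup.zpowers (F.j u0) : Set G)).2
    have hmem := (Subgroup.mem_normalizer_iff.1 hn (F.j u0)).1 (Subgroup.mem_zpowers _)
    have hcases : ∀ x ∈ Subgroup.zpowers (F.j u0), x = 1 ∨ x = F.j u0 ∨ x = (F.j u0)⁻¹ := by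
      intro x hx
      obtain ⟨i, hi⟩ := mem_powers_iff_mem_zpowers.2 hx
      have hi' : x = F.j u0 ^ (i % 3) := by rw [← pow_eq_pow_mod _ (F.j_cube u0)]; exact hi.symm
      rcases (show i % 3 = 0 ∨ i % 3 = 1 ∨ i % 3 = 2 by omega) with h | h | h <;> rw [h] at hi'
      · exact Or.inl (hi'.trans (pow_zero _))
      · exact Or.inr (Or.inl (hi'.trans (pow_one _)))
      · refine Or.inr (Or.inr (hi'.trans ?_))
        exact eq_inv_of_mul_eq_one_left (by rw [← pow_succ]; exact F.j_cube u0)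
    rcases hcases _ hmem with h | h | h
    · exact absurd (conj_eq_one_iff.1 h) (F.j_ne_one (by decide))
    · obtain ⟨i, w, hw, hew⟩ := hself e' he'C (mul_inv_eq_iff_eq_mul.1 h)
      obtain ⟨y, hy, rfl⟩ := D.mem_W1.1 hw
      have hy1 : y = 1 := by
        have hc := congrArg (· ^ 3) hew
        simp only [h3, ((D.Φ0_comm_e y).symm.pow_left i).mul_pow, ← pow_mul, mul_comm i 3] at hc
        rw [pow_mul, F.j_cube, one_pow, one_mul, ← map_pow, pow_three, (hel y (hlist y hy)).2.1, mul_one,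
          ← map_one D.Φ0] at hc
        exact (D.Φ0_inj hc).symm
      rw [hy1, map_one, mul_one] at hew
      have : e' ∈ Subgroup.zpowers (F.j u0) := hew ▸ Subgroup.npow_mem_zpowers _ i
      rcases hcases _ this with h' | h' | h'
      · exact absurd h' he1
      · exact Or.inl h'
      · exact Or.inr h'
    · exfalso
      have hthree : e' ^ 3 * F.j u0 * (e' ^ 3)⁻¹ = (F.j u0)⁻¹ := by
        rw [pow_three', show e' * e' * e' * F.j u0 * (e' * e' * e')⁻¹ =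
          e' * (e' * (e' * F.j u0 * e'⁻¹) * e'⁻¹) * e'⁻¹ by group, h, ← conj_inv, h, inv_inv, h]
      rw [h3, one_mul, inv_one, mul_one] at hthree
      have := F.j_cube u0
      rw [pow_succ, pow_two, show F.j u0 * F.j u0 = 1 from by nth_rewrite 1 [hthree]; exact inv_mul_cancel _,
        one_mul] at this
      exact F.j_ne_one (by decide) this
  have hd2 : F.φ (rot 6) * F.φ (rot 6) = 1 := F.φ_sq (by decide +kernel)
  have hdT : F.φ (rot 6) ∈ T := (hTmem _).2 ⟨1, by decide, Or.inr (by rw [map_one, mul_one])⟩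
  have hinv : F.φ (rot 6) * (F.j u0)⁻¹ * (F.φ (rot 6))⁻¹ = F.j u0 := by
    rw [← F.j_neg, F.φ_conj_j]; exact congrArg F.j (by decide +kernel)
  obtain ⟨h, hh, hhc⟩ : ∃ h, (h = g ∨ h = F.φ (rot 6) * g) ∧ Commute h (F.j u0) := by
    rcases hge with e | e
    · exact ⟨g, Or.inl rfl, mul_inv_eq_iff_eq_mul.1 e⟩
    · refine ⟨_, Or.inr rfl, mul_inv_eq_iff_eq_mul.1 ?_⟩
      rw [show F.φ (rot 6) * g * F.j u0 * (F.φ (rot 6) * g)⁻¹ =
        F.φ (rot 6) * (g * F.j u0 * g⁻¹) * (F.φ (rot 6))⁻¹ by group, e, hinv]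
  have hhT : h ∈ T → g ∈ T := by
    rcases hh with rfl | rfl
    · exact id
    · intro h'
      have := mul_mem hdT h'
      rwa [← mul_assoc, hd2, one_mul] at this
  refine hhT ?_
  obtain ⟨y, i, hyi⟩ := D.split0 hhc
  -- a 2-element
  have hh2 : ∃ n : ℕ, h ^ 2 ^ n = 1 := by
    obtain ⟨n, hn⟩ := hg2
    have hz2 : IsPGroup 2 (Subgroup.zpowers g) := by
      refine fun z => ⟨n, ?_⟩
      obtain ⟨j, hj⟩ := Subgroup.mem_zpowers_iff.1 z.2
      refine Subtype.ext ?_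
      rw [Subgroup.coe_pow, ← hj, ← zpow_natCast, ← zpow_mul, mul_comm, zpow_mul, zpow_natCast, hn, one_zpow]
      rfl
    have hK : IsPGroup 2 (Subgroup.zpowers g ⊔ T : Subgroup G) :=
      hz2.to_sup_of_normal_right' hT2 (Subgroup.zpowers_le.2 hgN)
    obtain ⟨m, hm⟩ := hK ⟨h, by
      rcases hh with rfl | rfl
      · exact Subgroup.mem_sup_left (Subgroup.mem_zpowers _)
      · exact mul_mem (Subgroup.mem_sup_right hdT) (Subgroup.mem_sup_left (Subgroup.mem_zpowers _))⟩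
    exact ⟨m, congrArg Subtype.val hm⟩
  obtain ⟨m, hm⟩ := hh2
  have hi : F.j (i.val • u0) = 1 ∧ y ^ 2 ^ m = 1 := by
    rw [hyi, F.j_smul, ((D.Φ0_comm_e y).pow_right _).mul_pow, ← map_pow] at hm
    have hc := congrArg (· ^ 3) hm
    rw [((D.Φ0_comm_e _).pow_right _).pow_right _ |>.mul_pow] at hc
    have hy3 : (y ^ 2 ^ m) ^ 3 = 1 := D.Φ0_inj (by
      rw [map_pow, map_one]
      rw [pow_right_comm (F.j u0 ^ i.val), pow_right_comm (F.j u0), F.j_cube, one_pow, one_pow, mul_one, one_pow] at hc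
      exact hc)
    have hjm : D.Φ0 (y ^ 2 ^ m) = ((F.j u0 ^ i.val) ^ 2 ^ m)⁻¹ := eq_inv_of_mul_eq_one_left hm
    obtain ⟨w, hw⟩ : ∃ w, w = y ^ 2 ^ m := ⟨_, rfl⟩
    have hwA : ∀ k : ℕ, D.Φ0 w = F.j u0 ^ k → w = 1 := by
      intro k hk
      have hcomm : ∀ z, w * z = z * w := fun z => D.Φ0_inj (by
        rw [map_mul, map_mul, hk]; exact ((D.Φ0_comm_e z).symm.pow_left k).eq)
      exact (by decide +kernel : ∀ w : Perm (Fin 6), w * swap 0 1 = swap 0 1 * w →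
        w * (swap 0 1 * swap 1 2 * swap 2 3 * swap 3 4 * swap 4 5) =
          swap 0 1 * swap 1 2 * swap 2 3 * swap 3 4 * swap 4 5 * w → w = 1) w (hcomm _) (hcomm _)
    have hw1 : w = 1 := hwA (2 * (i.val * 2 ^ m)) (by
      rw [hw, hjm, ← pow_mul]
      refine inv_eq_of_mul_eq_one_right ?_
      rw [← pow_add, show i.val * 2 ^ m + 2 * (i.val * 2 ^ m) = 3 * (i.val * 2 ^ m) by omega, pow_mul, F.j_cube,
        one_pow])
    refine ⟨?_, hw ▸ hw1⟩
    rw [← hw, hw1, map_one, one_mul] at hm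
    rw [F.j_smul]
    have h3 : (F.j u0 ^ i.val) ^ 3 = 1 := by rw [← pow_mul, mul_comm, pow_mul, F.j_cube, one_pow]
    exact orderOf_eq_one_iff.1 (Nat.eq_one_of_dvd_coprimes (Nat.Coprime.pow_left m (by norm_num : Nat.Coprime 2 3))
      (orderOf_dvd_of_pow_eq_one hm) (orderOf_dvd_of_pow_eq_one h3))
  rw [hi.1, mul_one] at hyi
  have hhTn : ∀ z ∈ T, h * z * h⁻¹ ∈ T := by
    intro z hz
    rcases hh with rfl | rfl
    · exact hgT z hz
    · rw [show F.φ (rot 6) * g * z * (F.φ (rot 6) * g)⁻¹ = F.φ (rot 6) * (g * z * g⁻¹) * (F.φ (rot 6))⁻¹ by group]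
      exact mul_mem (mul_mem hdT (hgT z hz)) (inv_mem hdT)
  have hy16 : y ^ 16 = 1 := by
    have h720 : y ^ 720 = 1 := by
      rw [← (by rw [Nat.card_perm, Nat.card_fin]; rfl : Nat.card (Perm (Fin 6)) = 720)]
      exact pow_card_eq_one'
    refine orderOf_dvd_iff_pow_eq_one.1 ((Nat.dvd_gcd (orderOf_dvd_of_pow_eq_one hi.2)
      (orderOf_dvd_of_pow_eq_one h720)).trans ?_)
    have h45 : (2 ^ m).gcd (16 * 45) ∣ 16 :=
      (Nat.Coprime.dvd_of_dvd_mul_right (Nat.Coprime.coprime_dvd_left (Nat.gcd_dvd_left _ _)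
        (Nat.Coprime.pow_left m (by norm_num : Nat.Coprime 2 45))) (Nat.gcd_dvd_right _ _))
    exact h45
  suffices hN' : ∀ z, inT1 z → inT1 (y * z * y⁻¹) from
    (hTmem h).2 ⟨y, t1_norm y hy16 (hN' _ (by decide +kernel)) (hN' _ (by decide +kernel)) (hN' _ (by decide +kernel))
      (hN' _ (by decide +kernel)), Or.inl hyi⟩
  intro z hzT
  have := hhTn _ ((hTmem _).2 ⟨z, hzT, Or.inl rfl⟩)
  rw [hyi, ← map_inv, ← map_mul, ← map_mul] at this
  obtain ⟨u, hu, e | e⟩ := (hTmem _).1 this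
  · rwa [D.Φ0_inj e]
  · exfalso
    have hc : ∀ v, Commute (F.φ (rot 6)) (D.Φ0 v) := fun v => (D.Φ0_comm_d v).symm
    have e' : D.Φ0 (y * z * y⁻¹ * u⁻¹) = F.φ (rot 6) := by
      rw [map_mul, e, map_inv, mul_inv_cancel_right]
    have hcomm : ∀ v, (y * z * y⁻¹ * u⁻¹) * v = v * (y * z * y⁻¹ * u⁻¹) := fun v => D.Φ0_inj (by
      rw [map_mul, map_mul D.Φ0 v, e']; exact (hc v).eq)
    have h1 := (by decide +kernel : ∀ w : Perm (Fin 6), w * swap 0 1 = swap 0 1 * w →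
        w * (swap 0 1 * swap 1 2 * swap 2 3 * swap 3 4 * swap 4 5) =
          swap 0 1 * swap 1 2 * swap 2 3 * swap 3 4 * swap 4 5 * w → w = 1) _ (hcomm _) (hcomm _)
    rw [h1, map_one] at e'
    exact F.φ_ne_one (by decide) e'.symm

end Frame3

end CfsgPSp43Real
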