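import Cfsg.Agent.Lib.PSp43Real.Sp.Emb

/-!
The image of `Sp(6,2)` contains the normalizer and the centralisers of the elements of order three.
-/

set_option autoImplicit false
set_option linter.style.haveILetI false
set_option synthInstance.maxSize 4000
set_option maxRecDepth 8000

namespace CfsgPSp43Real

open Subgroup Equiv Equiv.Perm
open CfsgLib.Sym9Three (V3 xv Mon Sub tr rot act inR ev rt3 eType mon_split rot_mul tr_mem_Sub card_Sub)

/-- The word of a translation. -/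
def jw (v : V3) : List (Fin 64) :=
  (List.replicate v.1.val ([1, 2] : List (Fin 64)) ++ List.replicate v.2.1.val ([4, 8] : List (Fin 64)) ++
    List.replicate v.2.2.val ([16, 32] : List (Fin 64))).flatten

theorem range_sl_gen : ∀ A : SL23, ∃ B₁ B₂ B₃ : SL23, B₁ * B₁ * B₁ = 1 ∧ B₂ * B₂ * B₂ = 1 ∧ B₃ * B₃ * B₃ = 1 ∧
    A = B₁ * B₂ * B₃ := by decide +kernel

theorem range_adj : (∀ i : Fin 5, ∃ l ∈ ([[0], [1], [2, 4, 3, 4, 2], [4], [3]] : List (List (Fin 5))),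
      swap i.castSucc i.succ = (l.map s2).prod) ∧
    (∀ i : Fin 5, ∃ l ∈ ([[0], [1], [2, 0, 1, 0, 2, 4, 3, 4, 2, 0, 1, 0, 2], [4], [3]] : List (List (Fin 5))),
      swap i.castSucc i.succ = (l.map s0).prod) := by decide +kernel

theorem range_words : SpM.wd (([0, 1, 0, 2, 1, 0, 3, 2, 1, 0, 4, 3, 2, 1, 0] : List (Fin 5)).map c2) = SpM.wd SpM.wW := by
  decide +kernel

theorem range_mon : (∀ v : V3, v = v.1.val • u0 + v.2.1.val • u1 + v.2.2.val • ev) ∧
    (∀ r : Fin 48, ∃ a b c x y z : Fin 2, rot r = rot 6 ^ a.val * rot 12 ^ b.val * rot 24 ^ c.val *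
      (rot 1 ^ x.val * rot 2 ^ y.val * rot 1 ^ z.val)) ∧
    rot 6 * (rot 6 * tr u0) = tr u0 ∧ rot 12 * (rot 12 * tr u1) = tr u1 ∧ rt3 * (rt3 * tr ev) = tr ev ∧
    (∀ m : Mon, inR 0 m.g = true → m * tr xv = tr xv * m) := by decide +kernel

theorem range_witness : SpM.wd [21, 42] * SpM.wd (jw xv) = SpM.wd (jw xv) * SpM.wd [21, 42] ∧
    ∀ v : V3, SpM.wd [21, 42] * SpM.wd (jw u0) ≠ SpM.wd (jw v) * SpM.wd [21, 42] := by decide +kernel

universe u

variable {G : Type u} [Group G]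

namespace Frame3

namespace SixE.Emb

variable {F : Frame3 G} {D : F.SixE} (P : D.Emb)

/-- The value of a word. -/
def ew (l : List (Fin 64)) : G := P.Ψ ⟨SpM.wd l, SpM.wd_mem l⟩

/-- The image of a transvection. -/
def τ (v : Fin 64) : G := P.Ψ ⟨SpM.T v, SpM.T_mem v⟩

/-- The image. -/
abbrev M : Subgroup G := P.Ψ.range

theorem ew_eq {l l' : List (Fin 64)} (h : SpM.wd l = SpM.wd l') : P.ew l = P.ew l' := congrArg P.Ψ (Subtype.ext h)

theorem ew_nil : P.ew [] = 1 := map_one P.Ψ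

theorem ew_cons (v : Fin 64) (l : List (Fin 64)) : P.ew (v :: l) = P.τ v * P.ew l := by
  show P.Ψ _ = P.Ψ _ * P.Ψ _
  rw [← map_mul]; exact congrArg P.Ψ (Subtype.ext (SpM.wd_cons v l))

theorem ew_append (l l' : List (Fin 64)) : P.ew (l ++ l') = P.ew l * P.ew l' := by
  induction l with
  | nil => rw [ew_nil, one_mul, List.nil_append]
  | cons v l ih => rw [List.cons_append, P.ew_cons, P.ew_cons, ih, mul_assoc]

theorem ew_mem (l : List (Fin 64)) : P.ew l ∈ P.M := ⟨_, rfl⟩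

theorem τ_one : P.τ 1 = F.φ (rot 6) := P.gen 0

theorem τ_two : P.τ 2 = F.φ (rot 6 * tr u0) := (P.gen 2).trans D.Φ_12

theorem τ_four : P.τ 4 = F.φ (rot 12) := P.p1

theorem τ_eight : P.τ 8 = F.φ (rot 12 * tr u1) := (P.gen 1).trans D.Φ_45

theorem τ_five : P.τ 5 = D.Φ (swap 2 5) := P.gen 3

theorem τ_y : P.τ 24 = D.Φ0 (swap 0 5) := P.gen 4

theorem τ_sixteen : P.τ 16 = F.φ rt3 := P.gen 6

theorem τ_thirtytwo : P.τ 32 = F.φ (rt3 * tr ev) := P.gen 5

theorem Φ_gen (i : Fin 5) : P.τ (c2 i) = D.Φ (s2 i) := by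
  fin_cases i
  · exact P.τ_one.trans D.p0.symm
  · exact P.τ_two.trans D.Φ_12.symm
  · exact P.τ_five
  · exact P.τ_eight.trans D.Φ_45.symm
  · exact P.τ_four.trans D.p1.symm

theorem Φ0_gen (i : Fin 5) : P.τ (c0 i) = D.Φ0 (s0 i) := by
  fin_cases i
  · exact P.τ_four.trans D.Φ0_01.symm
  · exact P.τ_eight.trans D.Φ0_12.symm
  · exact P.τ_y
  · exact P.τ_thirtytwo.trans D.Φ0_45.symm
  · exact P.τ_sixteen.trans D.Φ0_34.symm

theorem Φ_word (l : List (Fin 5)) : D.Φ (l.map s2).prod = P.ew (l.map c2) := by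
  induction l with
  | nil => rw [List.map_nil, List.map_nil, List.prod_nil, map_one, ew_nil]
  | cons i l ih => rw [List.map_cons, List.map_cons, List.prod_cons, map_mul, ih, P.ew_cons, P.Φ_gen]

theorem Φ0_word (l : List (Fin 5)) : D.Φ0 (l.map s0).prod = P.ew (l.map c0) := by
  induction l with
  | nil => rw [List.map_nil, List.map_nil, List.prod_nil, map_one, ew_nil]
  | cons i l ih => rw [List.map_cons, List.map_cons, List.prod_cons, map_mul, ih, P.ew_cons, P.Φ0_gen]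

theorem Φ_mem (σ : Perm (Fin 6)) : D.Φ σ ∈ P.M := by
  have h : Submonoid.closure (Set.range fun i : Fin 5 => swap i.castSucc i.succ) ≤
      (P.M.comap D.Φ).toSubmonoid := by
    refine Submonoid.closure_le.2 ?_
    rintro _ ⟨i, rfl⟩
    obtain ⟨l, -, e⟩ := range_adj.1 i
    show D.Φ (swap i.castSucc i.succ) ∈ P.M
    rw [e, P.Φ_word]; exact P.ew_mem _
  rw [Equiv.Perm.mclosure_swap_castSucc_succ 5] at h
  exact h (Submonoid.mem_top σ)

theorem Φ0_mem (σ : Perm (Fin 6)) : D.Φ0 σ ∈ P.M := by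
  have h : Submonoid.closure (Set.range fun i : Fin 5 => swap i.castSucc i.succ) ≤
      (P.M.comap D.Φ0).toSubmonoid := by
    refine Submonoid.closure_le.2 ?_
    rintro _ ⟨i, rfl⟩
    obtain ⟨l, -, e⟩ := range_adj.2 i
    show D.Φ0 (swap i.castSucc i.succ) ∈ P.M
    rw [e, P.Φ0_word]; exact P.ew_mem _
  rw [Equiv.Perm.mclosure_swap_castSucc_succ 5] at h
  exact h (Submonoid.mem_top σ)

theorem ew_W : P.ew SpM.wW = F.φ (rot 1) := by
  rw [← P.ew_eq range_words, ← P.Φ_word, six_words.1, D.w]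

theorem ew_rep : P.ew (SpM.rep 0) = F.φ rt3 ∧ P.ew (SpM.rep 1) = F.φ (rot 18) ∧ P.ew (SpM.rep 2) = F.φ (rot 1) ∧
    P.ew (SpM.rep 3) = F.φ (rot 25) := by
  refine ⟨?_, ?_, P.ew_W, ?_⟩
  · show P.ew [16] = _
    rw [P.ew_cons, ew_nil, mul_one, P.τ_sixteen]
  · show P.ew [1, 4] = _
    rw [P.ew_cons, P.ew_cons, ew_nil, mul_one, P.τ_one, P.τ_four, ← map_mul]
    exact congrArg F.φ (by decide +kernel)
  · show P.ew (16 :: SpM.wW) = _
    rw [P.ew_cons, P.ew_W, P.τ_sixteen, ← map_mul]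
    exact congrArg F.φ (by decide +kernel)

theorem ew_j (v : V3) : P.ew (jw v) = F.j v := by
  obtain ⟨hv, -, h0, h1, h2, -⟩ := range_mon
  have e : ∀ (a b : Fin 64) (w : V3), P.τ a * P.τ b = F.j w → ∀ n : ℕ,
      P.ew (List.replicate n [a, b]).flatten = F.j w ^ n := fun a b w h n => by
    induction n with
    | zero => rw [List.replicate_zero, List.flatten_nil, ew_nil, pow_zero]
    | succ n ih => rw [List.replicate_succ, List.flatten_cons, P.ew_append, ih, P.ew_cons, P.ew_cons, ew_nil, mul_one,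
        h, ← pow_succ']
  conv_rhs => rw [hv v, F.j_add, F.j_add, F.j_smul, F.j_smul, F.j_smul]
  rw [jw, List.flatten_append, List.flatten_append, P.ew_append, P.ew_append,
    e 1 2 u0 (by rw [P.τ_one, P.τ_two, ← map_mul, h0, F.φ_tr]),
    e 4 8 u1 (by rw [P.τ_four, P.τ_eight, ← map_mul, h1, F.φ_tr]),
    e 16 32 ev (by rw [P.τ_sixteen, P.τ_thirtytwo, ← map_mul, h2, F.φ_tr])]

/-- The normalizer lies in the image. -/
theorem N_le : F.N ≤ P.M := by
  intro g hg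
  obtain ⟨m, rfl⟩ := F.mem_N3.1 hg
  have m6 : F.φ (rot 6) ∈ P.M := P.τ_one ▸ ⟨_, rfl⟩
  have m12 : F.φ (rot 12) ∈ P.M := P.τ_four ▸ ⟨_, rfl⟩
  have m24 : F.φ (rot 24) ∈ P.M := (P.τ_sixteen ▸ ⟨_, rfl⟩ : F.φ rt3 ∈ P.M)
  have m1 : F.φ (rot 1) ∈ P.M := P.ew_W ▸ P.ew_mem _
  have m2 : F.φ (rot 2) ∈ P.M := D.Φ0_W ▸ P.Φ0_mem _
  rw [mon_split m, map_mul]
  refine mul_mem ?_ ?_
  · rw [F.φ_tr, ← P.ew_j]; exact P.ew_mem _
  · obtain ⟨a, b, c, x, y, z, e⟩ := range_mon.2.1 m.g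
    rw [e]
    simp only [map_mul, map_pow]
    exact mul_mem (mul_mem (mul_mem (pow_mem m6 _) (pow_mem m12 _)) (pow_mem m24 _))
      (mul_mem (mul_mem (pow_mem m1 _) (pow_mem m2 _)) (pow_mem m1 _))

theorem j_in (v : V3) : F.j v ∈ P.M := P.ew_j v ▸ P.ew_mem _

theorem cent_ev {g : G} (hg : Commute g (F.j ev)) : g ∈ P.M := by
  obtain ⟨y, i, rfl⟩ := D.split g hg
  exact mul_mem (P.Φ_mem y) (P.j_in _)

theorem cent_u0 {g : G} (hg : Commute g (F.j u0)) : g ∈ P.M := by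
  obtain ⟨y, i, rfl⟩ := D.split0 hg
  exact mul_mem (P.Φ0_mem y) (P.j_in _)

variable [Finite G]

/-- The centraliser of the element lies in the image. -/
theorem C_le : F.D.C ≤ P.M := by
  classical
  obtain ⟨H, hH⟩ : ∃ H, H = P.M.subgroupOf F.D.C := ⟨_, rfl⟩
  have hmem : ∀ x : F.D.C, x ∈ H ↔ (x : G) ∈ P.M := fun x => by rw [hH]; exact Subgroup.mem_subgroupOf
  suffices h : H = ⊤ from fun g hg => (hmem ⟨g, hg⟩).1 (h ▸ Subgroup.mem_top _)
  obtain ⟨-, -, -, -, -, hc0⟩ := range_mon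
  have ha : F.D.a = F.j xv := F.el_x.symm
  have hin : ∀ m : Sub 0, F.φ m.1 ∈ F.D.C := fun m => F.D.mem_C.2 (by
    rw [ha, ← F.φ_tr]; exact (F.φ_comm.2 (hc0 m.1 m.2)).eq)
  let f : Sub 0 → H := fun m => ⟨⟨_, hin m⟩, (hmem _).2 (P.N_le (F.φ_mem _))⟩
  have hf : Function.Injective f := fun m n h =>
    Subtype.ext (F.φ_inj (congrArg (fun x : H => ((x : F.D.C) : G)) h))
  obtain ⟨hwc, hwn⟩ := range_witness
  have hgC : P.ew [21, 42] ∈ F.D.C := F.D.mem_C.2 (by
    rw [ha, ← P.ew_j, ← P.ew_append, ← P.ew_append]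
    refine P.ew_eq ?_
    simpa [SpM.wd, mul_assoc] using hwc)
  have hout : (⟨⟨_, hgC⟩, (hmem _).2 (P.ew_mem _)⟩ : H) ∉ Set.range f := by
    rintro ⟨m, hm⟩
    have e : F.φ m.1 = P.ew [21, 42] := congrArg (fun x : H => ((x : F.D.C) : G)) hm
    refine hwn (act m.1.g u0) ?_
    have h := F.φ_conj_j m.1 u0
    rw [e, mul_inv_eq_iff_eq_mul, ← P.ew_j, ← P.ew_j, ← P.ew_append, ← P.ew_append] at h
    simpa [SpM.wd, mul_assoc] using congrArg Subtype.val (P.inj h)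
  have hlt : 162 < Nat.card H := by
    refine lt_of_eq_of_lt card_Sub.1.symm ?_
    refine lt_of_le_of_ne (Nat.card_le_card_of_injective f hf) fun e => hout ?_
    exact ((Nat.bijective_iff_injective_and_card f).2 ⟨hf, e⟩).2 _
  have hdvd : 162 ∣ Nat.card H := by
    let f' : Sub 0 →* H := MonoidHom.mk' f fun m n => Subtype.ext (Subtype.ext (map_mul F.φ m.1 n.1))
    rw [← card_Sub.1, Nat.card_congr (MonoidHom.ofInjective (f := f') hf).toEquiv]
    exact Subgroup.card_subgroup_dvd_card _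
  have hC : Nat.card F.D.C ∣ 648 := by
    rw [← F.D.π.ker.card_mul_index, F.D.kerCard, Subgroup.index_ker, show (648 : ℕ) = 27 * 24 from rfl]
    exact mul_dvd_mul_left 27 (dvd_trans (Subgroup.card_subgroup_dvd_card _) (dvd_of_eq (by
      rw [Nat.card_eq_fintype_card]; decide +kernel)))
  have hidx := H.card_mul_index
  obtain ⟨k, hk⟩ := hdvd
  have hC' : Nat.card F.D.C ≤ 648 := Nat.le_of_dvd (by norm_num) hC
  have h12 : H.index = 1 ∨ H.index = 2 := by
    have hpos : 0 < H.index := Nat.pos_of_ne_zero Subgroup.index_ne_zero_of_finite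
    have hk2 : 2 ≤ k := by omega
    have : H.index ≤ 2 := by
      by_contra h3
      have : 324 * 3 ≤ Nat.card H * H.index := Nat.mul_le_mul (by omega) (by omega)
      omega
    omega
  rcases h12 with h | h
  · exact Subgroup.index_eq_one.1 h
  rw [eq_top_iff]
  intro g _
  have h3 : ∀ x : F.D.C, F.D.π x * F.D.π x * F.D.π x = 1 → x ∈ H := fun x hx => by
    have h9 : x ^ 9 = 1 := by
      rw [show (9 : ℕ) = 3 * 3 from rfl, pow_mul, F.D.kerExp _ (by rw [map_pow, pow_three', hx])]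
    have e : x = (x * x) ^ 5 := by rw [← pow_two, ← pow_mul, pow_succ, h9, one_mul]
    rw [e]
    exact pow_mem (Subgroup.mul_self_mem_of_index_two h x) _
  obtain ⟨B₁, B₂, B₃, h1, h2, h3', e⟩ := range_sl_gen (F.D.π g)
  obtain ⟨x₁, rfl⟩ := F.D.surj B₁
  obtain ⟨x₂, rfl⟩ := F.D.surj B₂
  obtain ⟨x₃, rfl⟩ := F.D.surj B₃
  have hw : F.D.π ((x₁ * x₂ * x₃)⁻¹ * g) = 1 := by
    rw [map_mul, map_inv, map_mul, map_mul, e, inv_mul_cancel]
  have := mul_mem (mul_mem (mul_mem (h3 _ h1) (h3 _ h2)) (h3 _ h3')) (h3 _ (by rw [hw, one_mul, one_mul]))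
  rwa [mul_inv_cancel_left] at this

/-- The centralisers of all translations lie in the image. -/
theorem cent_j {v : V3} (hv : v ≠ 0) {g : G} (hg : Commute g (F.j v)) : g ∈ P.M := by
  have conj : ∀ (r : Fin 48) (w : V3), act r w = v → (∀ h, Commute h (F.j w) → h ∈ P.M) → g ∈ P.M := by
    intro r w hw h
    have hc := hg.conj (F.φ (rot r))⁻¹
    rw [← hw, ← F.φ_conj_j (rot r), inv_inv,
      show (F.φ (rot r))⁻¹ * (F.φ (rot r) * F.j w * (F.φ (rot r))⁻¹) * F.φ (rot r) = F.j w by group] at hc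
    have := mul_mem (mul_mem (P.N_le (F.φ_mem (rot r))) (h _ hc)) (inv_mem (P.N_le (F.φ_mem (rot r))))
    rwa [show F.φ (rot r) * ((F.φ (rot r))⁻¹ * g * F.φ (rot r)) * (F.φ (rot r))⁻¹ = g by group] at this
  rcases three_types.1 v hv with h | h | ⟨r, hr⟩
  · exact P.N_le (F.good_two h g hg.eq)
  · obtain ⟨r, hr⟩ := (three_types.2.2.1 v h).1
    exact conj r ev hr fun h => P.cent_ev
  · exact conj r xv hr fun h hh => P.C_le (F.D.mem_C.2 (by rw [← F.el_x]; exact hh.eq))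

/-- Conjugation into the image. -/
theorem strong {g : G} (h : g * F.j ev * g⁻¹ ∈ P.M) : g ∈ P.M :=
  F.strong_e P.N_le (fun _ hg => P.cent_ev hg) h

end SixE.Emb

end Frame3

end CfsgPSp43Real
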